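import Cfsg.Agent.H96.ThSimple.Main

/-!
Orbits of a point stabiliser on the cosets of the Thompson shape: which cosets are fixed by an
element of order seven of the centraliser type, and the resulting bound for its centraliser.
-/

set_option autoImplicit false
set_option maxRecDepth 100000

namespace H87.ThOut

open MulAction
open H96.ThSimple (dsize)

variable {G P : Type*} [Group G] [Finite G] [Group P] [Finite P]

/-- a subgroup with orbits of the known sizes on its cosets -/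
structure Cells (ι : P →* G) where
  inj : Function.Injective ι
  norm : Subgroup.normalizer (ι.range : Set G) = ι.range
  card_P : Nat.card P = 634023936
  q : Fin 11 → G ⧸ ι.range
  cover : ∀ c, ∃ i, c ∈ orbit ι.range (q i)
  size : ∀ i, Nat.card (orbit ι.range (q i)) = dsize i

/-- the elements fixing a coset -/
def stab (ι : P →* G) (c : G ⧸ ι.range) : Subgroup P := (stabilizer G c).comap ι

variable {ι : P →* G}

theorem mem_stab {n : P} {c : G ⧸ ι.range} : n ∈ stab ι c ↔ ι n • c = c := Iff.rfl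

theorem mem_stab_mk {n : P} {g : G} :
    n ∈ stab ι (g : G ⧸ ι.range) ↔ g⁻¹ * ι n * g ∈ ι.range := by
  rw [mem_stab, MulAction.Quotient.smul_coe, smul_eq_mul, QuotientGroup.eq]
  constructor
  · intro h
    have := inv_mem h
    simpa [mul_assoc] using this
  · intro h
    have := inv_mem h
    simpa [mul_assoc] using this

theorem dsize_inj : Function.Injective dsize := by decide +kernel

namespace Cells

variable (D : Cells ι)

include D

theorem card_stab {i : Fin 11} {c : G ⧸ ι.range} (hc : c ∈ orbit ι.range (D.q i)) :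
    Nat.card (stab ι c) * dsize i = 634023936 := by
  have h1 : Nat.card (stab ι c) = Nat.card (stabilizer ι.range c) := by
    refine Nat.card_congr
      { toFun := fun n => ⟨⟨ι n, n, rfl⟩, n.2⟩
        invFun := fun m => ⟨(MonoidHom.ofInjective D.inj).symm m.1, ?_⟩
        left_inv := fun n => Subtype.ext ((MonoidHom.ofInjective D.inj).symm_apply_apply n.1)
        right_inv := fun m => Subtype.ext ((MonoidHom.ofInjective D.inj).apply_symm_apply m.1) }
    show ι _ • c = c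
    rw [MonoidHom.apply_ofInjective_symm]
    exact m.2
  have h2 := Nat.card_congr (orbitProdStabilizerEquivGroup ι.range c)
  rw [Nat.card_prod, orbit_eq_iff.mpr hc, D.size,
    ← Nat.card_congr (MonoidHom.ofInjective D.inj).toEquiv, D.card_P] at h2
  rw [h1, mul_comm]
  exact h2

theorem orbit_eq {i j : Fin 11} {c : G ⧸ ι.range} (hi : c ∈ orbit ι.range (D.q i))
    (hj : c ∈ orbit ι.range (D.q j)) : i = j := by
  have h1 := D.card_stab hi
  have h2 := D.card_stab hj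
  exact dsize_inj (mul_left_cancel₀ (Nat.card_pos.ne') (h1.trans h2.symm))

theorem exists_move {i : Fin 11} {c c' : G ⧸ ι.range} (h : c ∈ orbit ι.range (D.q i))
    (h' : c' ∈ orbit ι.range (D.q i)) : ∃ n : P, ι n • c' = c := by
  obtain ⟨⟨m, n, rfl⟩, hm⟩ : c ∈ orbit ι.range c' := by rw [orbit_eq_iff.mpr h']; exact h
  exact ⟨n, hm⟩

theorem mem_range_of_zero {g : G} (h : (g : G ⧸ ι.range) ∈ orbit ι.range (D.q 0)) :
    g ∈ ι.range := by
  have h1 := D.card_stab h
  rw [show dsize 0 = 1 from rfl, mul_one, ← D.card_P] at h1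
  have htop : stab ι (g : G ⧸ ι.range) = ⊤ := Subgroup.eq_top_of_card_eq _ h1
  have hle : ι.range.map (MulAut.conj g⁻¹).toMonoidHom ≤ ι.range := by
    rintro _ ⟨_, ⟨n, rfl⟩, rfl⟩
    have hn : n ∈ stab ι (g : G ⧸ ι.range) := htop ▸ Subgroup.mem_top n
    simpa using mem_stab_mk.mp hn
  have heq : ι.range.map (MulAut.conj g⁻¹).toMonoidHom = ι.range :=
    Subgroup.eq_of_le_of_card_ge hle
      (Subgroup.card_map_of_injective (MulAut.conj g⁻¹).injective).ge
  have hn : g⁻¹ ∈ Subgroup.normalizer (ι.range : Set G) := by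
    refine Subgroup.mem_normalizer_iff.mpr fun x => ⟨fun hx => ?_, fun hx => ?_⟩
    · exact heq ▸ ⟨x, hx, by simp⟩
    · have hx' : g⁻¹ * x * g⁻¹⁻¹ ∈ ι.range.map (MulAut.conj g⁻¹).toMonoidHom := heq.symm ▸ hx
      obtain ⟨y, hy, hxy⟩ := hx'
      have e : y = x := by simpa using hxy
      exact e ▸ hy
  rw [D.norm] at hn
  exact inv_mem_iff.mp hn

theorem index_of_dvd {i : Fin 11} {c : G ⧸ ι.range} (hc : c ∈ orbit ι.range (D.q i))
    (h : 7 ∣ Nat.card (stab ι c)) : i = 0 ∨ i = 3 ∨ i = 6 := by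
  have h1 := D.card_stab hc
  have hi : 7 * dsize i ∣ 634023936 := h1 ▸ Nat.mul_dvd_mul_right h _
  clear hc h1
  revert hi
  revert i
  decide +kernel

theorem index_of_dvd_sq {i : Fin 11} {c : G ⧸ ι.range} (hc : c ∈ orbit ι.range (D.q i))
    (h : 49 ∣ Nat.card (stab ι c)) : i = 0 ∨ i = 3 := by
  have h1 := D.card_stab hc
  have hi : 49 * dsize i ∣ 634023936 := h1 ▸ Nat.mul_dvd_mul_right h _
  clear hc h1
  revert hi
  revert i
  decide +kernel

end Cells

/-- an element of prime power order is conjugate into a subgroup of full prime power order -/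
theorem conj_into {H : Type*} [Group H] [Finite H] {p m : ℕ} [Fact p.Prime] (Q : Subgroup H)
    (hQ : Nat.card Q = p ^ m) (hmax : ¬ p ^ (m + 1) ∣ Nat.card H) {x : H} {k : ℕ}
    (hx : x ^ p ^ k = 1) : ∃ h : H, h * x * h⁻¹ ∈ Q := by
  obtain ⟨S, hS⟩ := (IsPGroup.of_card hQ).exists_le_sylow
  have hSQ : Q = (S : Subgroup H) := by
    obtain ⟨n, hn⟩ := IsPGroup.iff_card.mp S.2
    refine Subgroup.eq_of_le_of_card_ge hS ?_
    rw [hn, hQ]
    refine Nat.pow_le_pow_right (Fact.out : p.Prime).pos ?_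
    by_contra hlt
    exact hmax ((pow_dvd_pow p (not_le.mp hlt)).trans (hn ▸ Subgroup.card_subgroup_dvd_card _))
  have hz : IsPGroup p (Subgroup.zpowers x) := by
    obtain ⟨j, -, hj⟩ := (Nat.dvd_prime_pow (Fact.out : p.Prime)).mp (orderOf_dvd_of_pow_eq_one hx)
    exact IsPGroup.of_card (by rw [Nat.card_zpowers, hj])
  obtain ⟨T, hT⟩ := hz.exists_le_sylow
  obtain ⟨g, hg⟩ := MulAction.exists_smul_eq H T S
  refine ⟨g, ?_⟩
  rw [hSQ, ← hg, Sylow.coe_subgroup_smul]
  exact Subgroup.smul_mem_pointwise_smul x (MulAut.conj g) _ (hT (Subgroup.mem_zpowers x))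

/-- what is known about the two cells with stabilisers of order divisible by seven -/
structure Seven (ι : P →* G) (tp : P → Bool) where
  tp_conj : ∀ n x, tp (n * x * n⁻¹) = tp x
  Q : Subgroup P
  card_Q : Nat.card Q = 49
  γ : G
  γ_not : γ ∉ ι.range
  γ_img : ∀ v ∈ Q, v ≠ 1 → ∃ y, γ⁻¹ * ι v * γ = ι y ∧ tp y = !(tp v)
  w : G
  w_not : w ∉ ι.range
  z : P
  y : P
  w_img : ι z * w = w * ι y
  z_ord : orderOf z = 7
  z_tp : ∀ k : ℕ, ¬ 7 ∣ k → tp (z ^ k) = false
  y_tp : tp y = false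

namespace Seven

variable {tp : P → Bool} (D : Cells ι) (S : Seven ι tp)

include D S

theorem gamma_orbit : (S.γ : G ⧸ ι.range) ∈ orbit ι.range (D.q 3) ∧
    S.Q ≤ stab ι (S.γ : G ⧸ ι.range) := by
  have hle : S.Q ≤ stab ι (S.γ : G ⧸ ι.range) := by
    intro v hv
    rw [mem_stab_mk]
    by_cases h1 : v = 1
    · simp [h1]
    · obtain ⟨y, hy, -⟩ := S.γ_img v hv h1
      exact ⟨y, hy.symm⟩
  obtain ⟨i, hi⟩ := D.cover (S.γ : G ⧸ ι.range)
  rcases D.index_of_dvd_sq hi (S.card_Q ▸ Subgroup.card_dvd_of_le hle) with rfl | rfl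
  · exact absurd (D.mem_range_of_zero hi) S.γ_not
  · exact ⟨hi, hle⟩

/-- the image of an element of order seven fixing `γ` -/
theorem gamma_tp {v y : P} (hv : v ∈ stab ι (S.γ : G ⧸ ι.range)) (h7 : v ^ 7 = 1) (h1 : v ≠ 1)
    (hy : S.γ⁻¹ * ι v * S.γ = ι y) : tp y = !(tp v) := by
  obtain ⟨hi, hle⟩ := S.gamma_orbit D
  have hK : Nat.card (stab ι (S.γ : G ⧸ ι.range)) = 3528 := by
    have h := D.card_stab hi
    rw [show dsize 3 = 179712 from rfl] at h
    omega
  haveI : Fact (Nat.Prime 7) := ⟨by norm_num⟩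
  obtain ⟨⟨h, hh⟩, hhv⟩ := conj_into (p := 7) (m := 2)
    (S.Q.subgroupOf (stab ι (S.γ : G ⧸ ι.range)))
    (by rw [Nat.card_congr (Subgroup.subgroupOfEquivOfLe hle).toEquiv, S.card_Q]; norm_num)
    (by rw [hK]; norm_num) (x := ⟨v, hv⟩) (k := 1) (Subtype.ext (by simpa using h7))
  have hhv' : h * v * h⁻¹ ∈ S.Q := Subgroup.mem_subgroupOf.mp hhv
  obtain ⟨k, hk⟩ := mem_stab_mk.mp hh
  obtain ⟨y', hy', ht⟩ := S.γ_img _ hhv' fun e => h1 (by simpa using conj_eq_one_iff.mp e)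
  have e : y' = k * y * k⁻¹ := D.inj (by
    rw [← hy', map_mul, map_mul, map_mul, map_mul, map_inv, map_inv, hk, ← hy]
    group)
  rw [e, S.tp_conj, S.tp_conj] at ht
  exact ht

theorem w_orbit : (S.w : G ⧸ ι.range) ∈ orbit ι.range (D.q 6) ∧
    S.z ∈ stab ι (S.w : G ⧸ ι.range) := by
  have hz : S.z ∈ stab ι (S.w : G ⧸ ι.range) := by
    rw [mem_stab_mk, mul_assoc, S.w_img, inv_mul_cancel_left]
    exact ⟨_, rfl⟩
  obtain ⟨i, hi⟩ := D.cover (S.w : G ⧸ ι.range)
  have h7 : 7 ∣ Nat.card (stab ι (S.w : G ⧸ ι.range)) :=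
    S.z_ord ▸ Subgroup.orderOf_dvd_natCard _ hz
  rcases D.index_of_dvd hi h7 with rfl | rfl | rfl
  · exact absurd (D.mem_range_of_zero hi) S.w_not
  · exfalso
    obtain ⟨hγ, -⟩ := S.gamma_orbit D
    obtain ⟨n, hn⟩ := D.exists_move hi hγ
    rw [MulAction.Quotient.smul_coe, smul_eq_mul, QuotientGroup.eq] at hn
    obtain ⟨k, hk⟩ := hn
    have hw : S.w = ι n * S.γ * ι k := by rw [hk]; group
    have himg := S.w_img
    rw [hw] at himg
    have hy : S.γ⁻¹ * ι (n⁻¹ * S.z * n) * S.γ = ι (k * S.y * k⁻¹) := by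
      simp only [map_mul, map_inv]
      calc S.γ⁻¹ * ((ι n)⁻¹ * ι S.z * ι n) * S.γ
          = S.γ⁻¹ * (ι n)⁻¹ * (ι S.z * (ι n * S.γ * ι k)) * (ι k)⁻¹ := by group
        _ = S.γ⁻¹ * (ι n)⁻¹ * (ι n * S.γ * ι k * ι S.y) * (ι k)⁻¹ := by rw [himg]
        _ = ι k * ι S.y * (ι k)⁻¹ := by group
    have hmem : n⁻¹ * S.z * n ∈ stab ι (S.γ : G ⧸ ι.range) := by
      rw [mem_stab_mk, hy]; exact ⟨_, rfl⟩
    have hzt : tp (n⁻¹ * S.z * n) = false := by
      have h := S.tp_conj n⁻¹ S.z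
      rw [inv_inv] at h
      rw [h]; simpa using S.z_tp 1 (by norm_num)
    have h := S.gamma_tp D hmem (by
      have e : (n⁻¹ * S.z * n⁻¹⁻¹) ^ 7 = 1 := by
        rw [conj_pow, ← S.z_ord, pow_orderOf_eq_one]; group
      rwa [inv_inv] at e) (fun e => by
      have e' : S.z = 1 := by simpa [mul_assoc, inv_mul_eq_one] using e
      simpa [e'] using S.z_ord) hy
    rw [S.tp_conj, S.y_tp, hzt] at h
    exact Bool.noConfusion h
  · exact ⟨hi, hz⟩

/-- elements of the class of `s` have their centraliser inside -/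
theorem centralizer_le {s : P} (hs : tp s = true) (h7 : orderOf s = 7) {g : G}
    (hg : g * ι s = ι s * g) : g ∈ ι.range := by
  have hgs : g⁻¹ * ι s * g = ι s := by rw [mul_assoc, ← hg, inv_mul_cancel_left]
  have hstab : s ∈ stab ι (g : G ⧸ ι.range) := by rw [mem_stab_mk, hgs]; exact ⟨_, rfl⟩
  have hs7 : s ^ 7 = 1 := h7 ▸ pow_orderOf_eq_one s
  have hs1 : s ≠ 1 := fun e => by simp [e] at h7
  obtain ⟨i, hi⟩ := D.cover (g : G ⧸ ι.range)
  have h7' : 7 ∣ Nat.card (stab ι (g : G ⧸ ι.range)) :=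
    h7 ▸ Subgroup.orderOf_dvd_natCard _ hstab
  rcases D.index_of_dvd hi h7' with rfl | rfl | rfl
  · exact D.mem_range_of_zero hi
  · exfalso
    obtain ⟨hγ, -⟩ := S.gamma_orbit D
    obtain ⟨n, hn⟩ := D.exists_move hi hγ
    rw [MulAction.Quotient.smul_coe, smul_eq_mul, QuotientGroup.eq] at hn
    obtain ⟨k, hk⟩ := hn
    have hgeq : g = ι n * S.γ * ι k := by rw [hk]; group
    have hy : S.γ⁻¹ * ι (n⁻¹ * s * n) * S.γ = ι (k * s * k⁻¹) := by
      simp only [map_mul, map_inv]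
      calc S.γ⁻¹ * ((ι n)⁻¹ * ι s * ι n) * S.γ
          = ι k * (g⁻¹ * ι s * g) * (ι k)⁻¹ := by rw [hgeq]; group
        _ = ι k * ι s * (ι k)⁻¹ := by rw [hgs]
    have hmem : n⁻¹ * s * n ∈ stab ι (S.γ : G ⧸ ι.range) := by
      rw [mem_stab_mk, hy]; exact ⟨_, rfl⟩
    have hst : tp (n⁻¹ * s * n) = true := by
      have h := S.tp_conj n⁻¹ s
      rw [inv_inv] at h
      rw [h, hs]
    have h := S.gamma_tp D hmem (by
      have e : (n⁻¹ * s * n⁻¹⁻¹) ^ 7 = 1 := by rw [conj_pow, hs7]; group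
      rwa [inv_inv] at e) (fun e => hs1 (by simpa [mul_assoc, inv_mul_eq_one] using e)) hy
    rw [S.tp_conj, hs, hst] at h
    exact Bool.noConfusion h
  · exfalso
    obtain ⟨hw, hz⟩ := S.w_orbit D
    obtain ⟨n, hn⟩ := D.exists_move hi hw
    rw [MulAction.Quotient.smul_coe, smul_eq_mul, QuotientGroup.eq] at hn
    obtain ⟨k, hk⟩ := hn
    have hgeq : g = ι n * S.w * ι k := by rw [hk]; group
    have hmem : n⁻¹ * s * n ∈ stab ι (S.w : G ⧸ ι.range) := by
      rw [mem_stab_mk]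
      refine ⟨k * s * k⁻¹, ?_⟩
      simp only [map_mul, map_inv]
      calc ι k * ι s * (ι k)⁻¹ = ι k * (g⁻¹ * ι s * g) * (ι k)⁻¹ := by rw [hgs]
        _ = S.w⁻¹ * ((ι n)⁻¹ * ι s * ι n) * S.w := by rw [hgeq]; group
    have hK : Nat.card (stab ι (S.w : G ⧸ ι.range)) = 126 := by
      have h := D.card_stab hw
      rw [show dsize 6 = 5031936 from rfl] at h
      omega
    haveI : Fact (Nat.Prime 7) := ⟨by norm_num⟩
    obtain ⟨h, hh⟩ := conj_into (p := 7) (m := 1)
      (Subgroup.zpowers (⟨S.z, hz⟩ : stab ι (S.w : G ⧸ ι.range)))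
      (by rw [Nat.card_zpowers, ← Subgroup.orderOf_coe, S.z_ord]; norm_num)
      (by rw [hK]; norm_num) (x := ⟨_, hmem⟩) (k := 1) (Subtype.ext (by
        have e : (n⁻¹ * s * n⁻¹⁻¹) ^ 7 = 1 := by rw [conj_pow, hs7]; group
        rw [inv_inv] at e
        simpa using e))
    obtain ⟨j, hj⟩ := mem_powers_iff_mem_zpowers.mpr hh
    have hj' : S.z ^ j = (h : P) * (n⁻¹ * s * n) * (h : P)⁻¹ := congrArg Subtype.val hj
    have h1 : tp (S.z ^ j) = true := by
      rw [hj', S.tp_conj]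
      have h' := S.tp_conj n⁻¹ s
      rw [inv_inv] at h'
      rw [h', hs]
    have hnd : ¬ 7 ∣ j := by
      rintro ⟨m, rfl⟩
      have e1 : S.z ^ (7 * m) = 1 := by rw [pow_mul, ← S.z_ord, pow_orderOf_eq_one, one_pow]
      rw [e1, eq_comm, conj_eq_one_iff] at hj'
      exact hs1 (by simpa [mul_assoc, inv_mul_eq_one] using hj')
    rw [S.z_tp j hnd] at h1
    exact Bool.noConfusion h1

end Seven

end H87.ThOut
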