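import Cfsg.Agent.H87.ThOut.Words
import Cfsg.Agent.H93.Th.Chain

/-!
Centralisers inside the model: of the first element of order seven, of the subgroup on a, ..., s,
and of the intersection with a conjugate.
-/

set_option autoImplicit false
set_option maxRecDepth 100000

namespace H87.ThOut

open H22Th (P act gen Tact rep B819 fixAll)
open H77.HN (run runK runK_eq evw agree)

theorem card_levels : Nat.card (fixAll [0]) = 774144 ∧ Nat.card (fixAll [1, 0]) = 1512 ∧
    Nat.card (fixAll [50, 1, 0]) = 9 := by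
  have h0 := H22Th.level_step (by norm_num) H22Th.chk0
  have h1 := H22Th.level_step (by norm_num) H22Th.chk1
  have h2 := H22Th.level_step (by norm_num) H22Th.chk2
  have h3 := H22Th.level_step (by norm_num) H22Th.chk3
  have hb : Nat.card (fixAll [26, 50, 1, 0]) = 1 := by
    rw [H22Th.fixAll_eq_bot, Subgroup.card_bot]
  have ht : Nat.card (fixAll []) ≤ 634023936 :=
    (Nat.card_le_card_of_injective _ Subtype.val_injective).trans H22Th.card_P.le
  omega

/-- words moving a point to distinct places, fixing the earlier points -/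
noncomputable def levelW (x : ℕ) (fixed : List ℕ) (ws : List (List ℕ)) : Bool :=
  H93.Th.fresh (ws.map fun w => runK Tact w x) 0 &&
    ws.all fun w => fixed.all fun q => Nat.beq (runK Tact w q) q

theorem level_exact {x : ℕ} {fixed : List ℕ} {ws : List (List ℕ)} (hx : x < 819)
    (h : levelW x fixed ws = true)
    (hcard : Nat.card (fixAll fixed) = ws.length * Nat.card (fixAll (x :: fixed)))
    {g : P} (hg : g ∈ fixAll fixed) :
    ∃ w ∈ ws, ∃ k ∈ fixAll (x :: fixed), g = ew w * k := by
  simp only [levelW, Bool.and_eq_true, List.all_eq_true, Nat.beq_eq, runK_eq] at h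
  have hmem : ∀ w ∈ ws, ew w ∈ fixAll fixed := fun w hw q hq => Fin.ext
    ((rep.evw_apply w q).trans (h.2 w hw _ hq))
  let f : Fin ws.length × fixAll (x :: fixed) → fixAll fixed := fun q =>
    ⟨ew ws[q.1] * (q.2 : P), mul_mem (hmem _ (List.getElem_mem _))
      (fun z hz => q.2.2 z (List.mem_cons_of_mem _ hz))⟩
  have hf : Function.Injective f := by
    rintro ⟨i, k⟩ ⟨j, l⟩ hkl
    have he : ew ws[i] * (k : P) = ew ws[j] * (l : P) := congrArg Subtype.val hkl
    have hk : ∀ k : fixAll (x :: fixed), act (k : P) ⟨x, hx⟩ = ⟨x, hx⟩ := fun k =>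
      k.2 ⟨x, hx⟩ List.mem_cons_self
    have h1 := congrArg (fun g => (act g ⟨x, hx⟩ : ℕ)) he
    simp only [map_mul, Equiv.Perm.mul_apply, hk] at h1
    have hi : i = j := by
      refine Fin.ext ((List.Nodup.getElem_inj_iff (H93.Th.fresh_spec _ _ h.1).1
        (hi := by simp) (hj := by simp)).1 ?_)
      simp only [List.getElem_map]
      exact (rep.evw_apply _ _).symm.trans (h1.trans (rep.evw_apply _ _))
    subst hi
    exact Prod.ext rfl (Subtype.ext (mul_left_cancel he))
  have hb : Function.Bijective f := (Nat.bijective_iff_injective_and_card f).mpr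
    ⟨hf, by rw [Nat.card_prod, Nat.card_fin, hcard]⟩
  obtain ⟨⟨i, k⟩, hk⟩ := hb.2 ⟨g, hg⟩
  exact ⟨_, List.getElem_mem i.2, k, k.2, (congrArg Subtype.val hk).symm⟩

theorem lvl_chk : levelW 1 [0] lvl1 = true ∧ levelW 50 [1, 0] lvl2 = true ∧
    levelW 26 [50, 1, 0] lvl3 = true ∧ lvl1.length = 512 ∧ lvl2.length = 168 ∧
    lvl3.length = 9 := by
  decide +kernel

theorem fix_one {g : P} (hg : g ∈ fixAll [0]) :
    ∃ w ∈ lvl1, ∃ k ∈ fixAll [1, 0], g = ew w * k :=
  level_exact (by norm_num) lvl_chk.1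
    (by rw [lvl_chk.2.2.2.1, card_levels.1, card_levels.2.1]) hg

theorem fix_two {g : P} (hg : g ∈ fixAll [1, 0]) :
    ∃ w2 ∈ lvl2, ∃ w3 ∈ lvl3, g = ew (w3 ++ w2) := by
  obtain ⟨w2, h2, k, hk, rfl⟩ := level_exact (by norm_num) lvl_chk.2.1
    (by rw [lvl_chk.2.2.2.2.1, card_levels.2.1, card_levels.2.2]) hg
  obtain ⟨w3, h3, l, hl, rfl⟩ := level_exact (by norm_num) lvl_chk.2.2.1
    (by rw [lvl_chk.2.2.2.2.2, card_levels.2.2, H22Th.fixAll_eq_bot, Subgroup.card_bot]) hk
  rw [H22Th.fixAll_eq_bot, Subgroup.mem_bot] at hl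
  exact ⟨w2, h2, w3, h3, by rw [hl, mul_one, ew_append]⟩

/-- the three generators of the centraliser -/
def mac : ℕ → List ℕ
  | 0 => sWord
  | 1 => pWord
  | _ => aWord

/-- an element of the centraliser -/
def cWord (i j k : ℕ) : List ℕ :=
  rep' k sWord ++ (cY.getD j []).flatMap mac ++ (cFix.getD i []).flatMap mac

theorem cent_chk :
    ((List.range 819).all fun q => !Nat.beq (runK Tact sWord q) q ||
        (List.range 21).any fun i => Nat.beq (fPts.getD i 999) q) = true ∧
    ((List.range 21).all fun i => commW ((cFix.getD i []).flatMap mac) sWord &&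
        Nat.beq (runK Tact ((cFix.getD i []).flatMap mac) 0) (fPts.getD i 999)) = true ∧
    (lvl1.all fun w => !Nat.beq (runK Tact sWord (runK Tact w 1)) (runK Tact w 1) ||
        (List.range 8).any fun j => Nat.beq (yPts.getD j 999) (runK Tact w 1)) = true ∧
    ((List.range 8).all fun j => commW ((cY.getD j []).flatMap mac) sWord &&
        Nat.beq (runK Tact ((cY.getD j []).flatMap mac) 0) 0 &&
        Nat.beq (runK Tact ((cY.getD j []).flatMap mac) 1) (yPts.getD j 999)) = true ∧
    (lvl2.all fun w2 => lvl3.all fun w3 => !commW (w3 ++ w2) sWord ||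
        (List.range 7).any fun k => agree Tact B819 (w3 ++ w2) (rep' k sWord)) = true := by
  decide +kernel

theorem act_comm {g h : P} {q : Fin 819} (hc : g * h = h * g) (hq : act h q = q) :
    act h (act g q) = act g q := by
  rw [← Equiv.Perm.mul_apply, ← map_mul, ← hc, map_mul, Equiv.Perm.mul_apply, hq]

theorem centralizer_list {g : P} (hg : g * sEl = sEl * g) :
    ∃ i < 21, ∃ j < 8, ∃ k < 7, g = ew (cWord i j k) := by
  obtain ⟨c1, c2, c3, c4, c5⟩ := cent_chk
  simp only [List.all_eq_true, List.any_eq_true, List.mem_range, Bool.or_eq_true,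
    Bool.and_eq_true, Bool.not_eq_true', Nat.beq_eq, runK_eq] at c1 c2 c3 c4 c5
  have hs0 : run Tact sWord 0 = 0 ∧ run Tact sWord 1 = 1 := by decide +kernel
  have hsf : ∀ q : Fin 819, act sEl q = q → run Tact sWord q = q := fun q hq =>
    (rep.evw_apply sWord q).symm.trans (congrArg Fin.val hq)
  have hfs : ∀ q : Fin 819, run Tact sWord q = q → act sEl q = q := fun q hq =>
    Fin.ext ((rep.evw_apply sWord q).trans hq)
  -- the image of the first point
  have hg0 := hsf _ (act_comm hg (hfs ⟨0, by norm_num⟩ hs0.1))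
  obtain ⟨i, hi, hfi⟩ := (c1 _ (act g ⟨0, by norm_num⟩).2).resolve_left fun h =>
    absurd hg0 (by simpa using Nat.ne_of_beq_eq_false h)
  obtain ⟨hc2, hi0⟩ := c2 i hi
  set A := ew ((cFix.getD i []).flatMap mac) with hA
  have hA0 : act A ⟨0, by norm_num⟩ = act g ⟨0, by norm_num⟩ :=
    Fin.ext ((rep.evw_apply _ _).trans (hi0.trans hfi))
  have hAs : A * sEl = sEl * A := commW_eq hc2
  have hg1fix : A⁻¹ * g ∈ fixAll [0] := fun q hq => by
    obtain rfl : q = ⟨0, by norm_num⟩ := Fin.ext (List.mem_singleton.mp hq)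
    rw [map_mul, Equiv.Perm.mul_apply, map_inv, Equiv.Perm.inv_eq_iff_eq, hA0]
  have hg1s : A⁻¹ * g * sEl = sEl * (A⁻¹ * g) :=
    ((show Commute A sEl from hAs).inv_left.mul_left hg).eq
  -- the image of the second point
  obtain ⟨w, hw, k, hk, hgw⟩ := fix_one hg1fix
  have hk1 : act (A⁻¹ * g) ⟨1, by norm_num⟩ = act (ew w) ⟨1, by norm_num⟩ := by
    rw [hgw, map_mul, Equiv.Perm.mul_apply, hk ⟨1, by norm_num⟩ List.mem_cons_self]
  have hg1 := hsf _ (act_comm hg1s (hfs ⟨1, by norm_num⟩ hs0.2))
  rw [hk1, show (act (ew w) ⟨1, by norm_num⟩ : ℕ) = run Tact w 1 from rep.evw_apply w _] at hg1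
  obtain ⟨j, hj, hyj⟩ := (c3 w hw).resolve_left fun h => Nat.ne_of_beq_eq_false h hg1
  obtain ⟨⟨hc4, hj0⟩, hj1⟩ := c4 j hj
  set B := ew ((cY.getD j []).flatMap mac) with hB
  have hBs : B * sEl = sEl * B := commW_eq hc4
  have hg2fix : B⁻¹ * (A⁻¹ * g) ∈ fixAll [1, 0] := by
    intro q hq
    rw [map_mul, Equiv.Perm.mul_apply, map_inv, Equiv.Perm.inv_eq_iff_eq]
    simp only [List.mem_cons, List.not_mem_nil, or_false] at hq
    rcases hq with hq | hq
    · obtain rfl : q = ⟨1, by norm_num⟩ := Fin.ext hq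
      rw [hk1]
      exact Fin.ext (((rep.evw_apply w _).trans (hyj.symm.trans hj1.symm)).trans
        (rep.evw_apply _ _).symm)
    · obtain rfl : q = ⟨0, by norm_num⟩ := Fin.ext hq
      rw [hg1fix ⟨0, by norm_num⟩ List.mem_cons_self]
      exact Fin.ext (hj0.symm.trans
        (rep.evw_apply ((cY.getD j []).flatMap mac) ⟨0, by norm_num⟩).symm)
  have hg2s : B⁻¹ * (A⁻¹ * g) * sEl = sEl * (B⁻¹ * (A⁻¹ * g)) :=
    ((show Commute B sEl from hBs).inv_left.mul_left hg1s).eq
  obtain ⟨w2, h2, w3, h3, hg3⟩ := fix_two hg2fix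
  rw [hg3] at hg2s
  obtain ⟨m, hm, hag⟩ := (c5 w2 h2 w3 h3).resolve_left fun h => by
    rw [commW_of hg2s] at h; exact Bool.noConfusion h
  refine ⟨i, hi, j, hj, m, hm, ?_⟩
  rw [cWord, ew_append, ew_append, ← ew_eq hag, ← hg3, ← hA, ← hB]
  group

/-- the elements of order two among them with a further property are conjugates of the involution -/
theorem invol_chk :
    ((List.range 21).all fun i => (List.range 8).all fun j => (List.range 7).all fun k =>
      !(agree Tact B819 (cWord i j k ++ cWord i j k) [] &&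
          agree Tact B819 (rep' 7 (pWord ++ cWord i j k)) []) ||
        agree Tact B819 (cWord i j k) [] ||
        (List.range 7).any fun m => agree Tact B819 (cWord i j k)
          (rep' ((7 - m) % 7) pWord ++ aWord ++ rep' m pWord)) = true ∧
    ((List.range 21).all fun i => (List.range 8).all fun j => (List.range 7).all fun k =>
      !commW (cWord i j k) pWord || (List.range 7).any fun x => (List.range 7).any fun y =>
        agree Tact B819 (cWord i j k) (elW (x, y))) = true := by
  decide +kernel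

theorem invol_cases {g : P} (hs : g * sEl = sEl * g) (h2 : g * g = 1) (h1 : g ≠ 1)
    (h7 : (g * pEl) ^ 7 = 1) : ∃ m : ℕ, g = pEl ^ m * aEl * (pEl ^ m)⁻¹ := by
  obtain ⟨i, hi, j, hj, k, hk, rfl⟩ := centralizer_list hs
  have h := invol_chk.1
  simp only [List.all_eq_true, List.any_eq_true, List.mem_range, Bool.or_eq_true] at h
  rcases h i hi j hj k hk with (h | h) | ⟨m, hm, h⟩
  · exfalso
    simp only [Bool.not_eq_true', Bool.and_eq_false_iff] at h
    rcases h with h | h
    · exact ew_ne h (by rw [ew_append, h2]; rfl)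
    · exact ew_ne h (by rw [ew_rep, ew_append]; exact h7)
  · exact absurd (ew_eq h) h1
  · refine ⟨m, ?_⟩
    rw [ew_eq h, ew_append, ew_append, ew_rep, ew_rep, ← mul_assoc]
    change pEl ^ m * aEl * pEl ^ ((7 - m) % 7) = _
    congr 1
    refine eq_inv_of_mul_eq_one_left ?_
    rw [← pow_add, pow_eq_pow_mod _ p_pow7, show ((7 - m) % 7 + m) % 7 = 0 by omega, pow_zero]

theorem centralizer_Q {g : P} (hs : g * sEl = sEl * g) (hp : g * pEl = pEl * g) :
    g ∈ Qsub := by
  obtain ⟨i, hi, j, hj, k, hk, rfl⟩ := centralizer_list hs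
  have h := invol_chk.2
  simp only [List.all_eq_true, List.any_eq_true, List.mem_range, Bool.or_eq_true] at h
  rcases h i hi j hj k hk with h | ⟨x, -, y, -, h⟩
  · rw [commW_of hp] at h; exact Bool.noConfusion h
  · rw [ew_eq h, ew_elW]; exact el_mem _

theorem centralizer_Lsub_le {g : P} (hg : g * sEl = sEl * g) : g ∈ H22Th.Lsub := by
  obtain ⟨i, -, j, -, k, -, rfl⟩ := centralizer_list hg
  have hm : ∀ l, ew (mac l) ∈ H22Th.Lsub := by
    intro l
    unfold mac
    split <;> exact H22Th.evw_mem (by decide)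
  rw [cWord, ew_append, ew_append, ew_rep]
  exact mul_mem (ew_flat_mem fun l _ => hm l)
    (mul_mem (ew_flat_mem fun l _ => hm l) (pow_mem (H22Th.evw_mem (by decide)) _))

/-- only the identity centralises the subgroup on a, ..., s -/
theorem eq_one_of_centralizes {g : P} (hg : ∀ l ∈ H22Th.Lsub, g * l = l * g) : g = 1 := by
  have h0 : act g ⟨0, by norm_num⟩ = ⟨0, by norm_num⟩ :=
    Fin.ext (H22Th.eq_zero_of_fixed fun h hh =>
      act_comm (hg h (H22Th.H0sub_le hh)) (H22Th.H0sub_fix hh))
  refine H22Th.act_injective (Equiv.ext fun q => ?_)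
  obtain ⟨l, hl, rfl⟩ := H22Th.transitive q
  rw [map_one, Equiv.Perm.one_apply, ← Equiv.Perm.mul_apply, ← map_mul, hg l hl, map_mul,
    Equiv.Perm.mul_apply, h0]

/-- the letters of the generators of the intersection with a conjugate -/
def hLet (i : ℕ) : List ℕ := hMac.getD i []

theorem hz_chk :
    ((List.range 819).all fun q => Nat.beq q 0 ||
        loop0.any fun m => !Nat.beq (runK Tact (m.flatMap hLet) q) q) = true ∧
    (loop0.all fun m => Nat.beq (runK Tact (m.flatMap hLet) 0) 0) = true ∧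
    (loop1.all fun m => Nat.beq (runK Tact (m.flatMap hLet) 1) 1) = true ∧
    (lvl1.all fun w1 =>
      (loop1.any fun m => !Nat.beq (runK Tact (m.flatMap hLet) (runK Tact w1 1)) (runK Tact w1 1)) ||
        lvl2.all fun w2 => lvl3.all fun w3 =>
          ((List.range 14).any fun i => !commW (w3 ++ w2 ++ w1) (hLet i)) ||
            agree Tact B819 (w3 ++ w2 ++ w1) []) = true := by
  decide +kernel

theorem centralizer_hGens {g : P} (hg : ∀ i, g * ew (hLet i) = ew (hLet i) * g) : g = 1 := by
  obtain ⟨c1, c2, c3, c4⟩ := hz_chk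
  simp only [List.all_eq_true, List.any_eq_true, List.mem_range, Bool.or_eq_true,
    Bool.not_eq_true', Nat.beq_eq, runK_eq] at c1 c2 c3 c4
  have hcm : ∀ m : List ℕ, g * ew (m.flatMap hLet) = ew (m.flatMap hLet) * g := fun m =>
    Subgroup.mem_centralizer_singleton_iff.mp
      (ew_flat_mem (K := Subgroup.centralizer {g}) fun l _ =>
        Subgroup.mem_centralizer_singleton_iff.mpr (hg l).symm) |>.symm
  have hfixed : ∀ (m : List ℕ) (q : Fin 819), run Tact (m.flatMap hLet) q = q →
      run Tact (m.flatMap hLet) (act g q) = act g q := fun m q hq => by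
    have h := act_comm (hcm m) (Fin.ext ((rep.evw_apply _ q).trans hq) :
      act (ew (m.flatMap hLet)) q = q)
    exact (rep.evw_apply _ _).symm.trans (congrArg Fin.val h)
  have h0 : g ∈ fixAll [0] := by
    intro q hq
    obtain rfl : q = ⟨0, by norm_num⟩ := Fin.ext (List.mem_singleton.mp hq)
    refine Fin.ext ((c1 _ (act g ⟨0, by norm_num⟩).2).resolve_right ?_)
    rintro ⟨m, hm, hne⟩
    exact Nat.ne_of_beq_eq_false hne (hfixed m ⟨0, by norm_num⟩ (c2 m hm))
  obtain ⟨w1, h1, k, hk, rfl⟩ := fix_one h0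
  have e1 : (act (ew w1 * k) ⟨1, by norm_num⟩ : ℕ) = run Tact w1 1 := by
    rw [map_mul, Equiv.Perm.mul_apply, hk ⟨1, by norm_num⟩ List.mem_cons_self]
    exact rep.evw_apply w1 _
  have hall := (c4 w1 h1).resolve_left ?_
  · obtain ⟨w2, h2, w3, h3, rfl⟩ := fix_two hk
    rcases hall w2 h2 w3 h3 with ⟨i, -, hne⟩ | hone
    · have := commW_of (u := w3 ++ w2 ++ w1) (v := hLet i) (by
        rw [ew_append]; exact hg i)
      rw [this] at hne
      exact Bool.noConfusion hne
    · have := ew_eq hone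
      rw [ew_append] at this
      exact this
  · rintro ⟨m, hm, hne⟩
    have h := hfixed m ⟨1, by norm_num⟩ (c3 m hm)
    rw [e1] at h
    exact Nat.ne_of_beq_eq_false hne h

end H87.ThOut
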