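import Cfsg.Agent.H87.ThOut.Cent

/-!
Conjugating words in the model and the arithmetic of the two kinds of lines.
-/

set_option autoImplicit false
set_option maxRecDepth 100000

namespace H87.ThOut

open H22Th (P act gen Tact B819 iv)
open H77.HN (evw agree invw)

/-- the linear map with the given entries -/
def lin (a b c d : ℕ) (v : ℕ × ℕ) : ℕ × ℕ := (a * v.1 + b * v.2, c * v.1 + d * v.2)

theorem nv_chk :
    (nvWord.all fun x =>
      agree Tact B819 (elW x.1) (invw iv x.2.2 ++ sWord ++ x.2.2) &&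
        agree Tact B819 (elW x.2.1) (invw iv x.2.2 ++ pWord ++ x.2.2)) = true ∧
    ((List.range 7).all fun i => (List.range 7).all fun j => !isA (i, j) ||
        nvWord.any fun x => Nat.beq x.1.1 i && Nat.beq x.1.2 j) = true := by
  decide +kernel

theorem nv_spec {t r : ℕ × ℕ} {w : List ℕ} (h : (t, r, w) ∈ nvWord) :
    ew w * sEl * (ew w)⁻¹ = el t ∧ ew w * pEl * (ew w)⁻¹ = el r := by
  have h' := List.all_eq_true.mp nv_chk.1 _ h
  simp only [Bool.and_eq_true] at h'
  have e1 := ew_eq h'.1
  have e2 := ew_eq h'.2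
  rw [ew_elW, ew_conj] at e1 e2
  exact ⟨e1.symm, e2.symm⟩

theorem el_conj {n : P} {t r : ℕ × ℕ} (h1 : n * sEl * n⁻¹ = el t) (h2 : n * pEl * n⁻¹ = el r)
    (v : ℕ × ℕ) : n * el v * n⁻¹ = el (lin t.1 r.1 t.2 r.2 v) := by
  rw [el, show n * (sEl ^ v.1 * pEl ^ v.2) * n⁻¹ =
      (n * sEl ^ v.1 * n⁻¹) * (n * pEl ^ v.2 * n⁻¹) by group,
    ← conj_pow, ← conj_pow, h1, h2, el_pow, el_pow, el_mul]
  rfl

theorem nv_exists {t : ℕ × ℕ} (h : isA t = true) : ∃ (n : P) (r : ℕ × ℕ),
    n * sEl * n⁻¹ = el t ∧ n * pEl * n⁻¹ = el r := by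
  have h' := nv_chk.2
  simp only [List.all_eq_true, List.mem_range, Bool.or_eq_true, Bool.not_eq_true',
    List.any_eq_true, Bool.and_eq_true, Nat.beq_eq] at h'
  rcases h' (t.1 % 7) (Nat.mod_lt _ (by norm_num)) (t.2 % 7) (Nat.mod_lt _ (by norm_num)) with
    hf | ⟨⟨t', r, w⟩, hx, h1, h2⟩
  · rw [isA_mod, h] at hf; exact Bool.noConfusion hf
  · obtain ⟨e1, e2⟩ := nv_spec hx
    refine ⟨ew w, r, e1.trans ?_, e2⟩
    rw [el_mod t.1 t.2]
    exact congrArg el (Prod.ext h1 h2)

/-- no further linear maps respect the normalising elements -/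
noncomputable def lineChk (a b c d : ℕ) : Bool :=
  Nat.beq ((a * d + 6 * b * c) % 7) 0 ||
    !(nvWord.all fun x =>
      ((isA (lin a b c d x.1) != isA (lin a b c d (1, 0))) ==
        (isA (lin a b c d x.2.1) != isA (lin a b c d (0, 1)))) &&
      ((isA (lin a b c d x.1) != isA (lin a b c d (1, 0))) ==
        (isA (lin a b c d (lin x.1.1 x.2.1.1 x.1.2 x.2.1.2 (1, 5))) !=
          isA (lin a b c d (1, 5))))) ||
    ((List.range 7).all fun i => (List.range 7).all fun j =>
      !(isA (lin a b c d (1, 0))) || (isA (lin a b c d (i, j)) == isA (i, j)))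

theorem line_chk :
    ((List.range 7).all fun a => (List.range 7).all fun b => (List.range 7).all fun c =>
      (List.range 7).all fun d => lineChk a b c d) = true := by
  decide +kernel

theorem fix_line_chk :
    ((List.range 7).all fun i => (List.range 7).all fun k =>
      !((List.range 7).all fun x => (List.range 7).all fun y =>
          isA (lin 1 i 0 k (x, y)) == isA (x, y)) ||
        (Nat.beq i 0 && (Nat.beq k 1 || Nat.beq k 2 || Nat.beq k 4))) = true := by
  decide +kernel

theorem flip_chk :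
    ((List.range 7).all fun i => (List.range 7).all fun j =>
      (Nat.beq i 0 && Nat.beq j 0) ||
        (isA (lin gammaS.1 gammaP.1 gammaS.2 gammaP.2 (i, j)) == !isA (i, j))) = true ∧
    ((List.range 7).all fun k =>
      Nat.beq k 0 || !isA (wSrc.1 * k, wSrc.2 * k)) = true ∧ isA wDst = false ∧
    isA (1, 0) = true ∧ isA (1, 5) = true := by
  decide +kernel

/-- the six elements -/
def mac6 : ℕ → List ℕ
  | 0 => sWord
  | 1 => [6]
  | 2 => pWord
  | 3 => rep' 6 pWord
  | 4 => aWord
  | _ => a1Word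

theorem word_chk :
    ((List.range 5).all fun l =>
      agree Tact B819 [l] ((genWord.getD l []).flatMap mac6)) = true ∧
    agree Tact B819 (elW (1, 5)) (invw iv n1Word ++ sWord ++ n1Word) = true ∧
    agree Tact B819 (elW (3, 3)) (invw iv n1Word ++ pWord ++ n1Word) = true ∧
    agree Tact B819 a1Word (invw iv n1Word ++ aWord ++ n1Word) = true ∧
    commW (h3Mac.flatMap mac) sWord = true ∧
    agree Tact B819 (rep' 2 pWord)
      (invw iv (h3Mac.flatMap mac) ++ pWord ++ h3Mac.flatMap mac) = true ∧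
    agree Tact B819 [6] (rep' 6 sWord) = true := by
  decide +kernel

/-- the element moving the first line to the second -/
noncomputable def n1 : P := ew n1Word

/-- the conjugate involution -/
noncomputable def a1El : P := ew a1Word

/-- the element squaring the second generator -/
noncomputable def h3 : P := ew (h3Mac.flatMap mac)

theorem n1_s : n1 * sEl * n1⁻¹ = el (1, 5) := by
  have h := ew_eq word_chk.2.1
  rw [ew_elW, ew_conj] at h
  exact h.symm

theorem n1_p : n1 * pEl * n1⁻¹ = el (3, 3) := by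
  have h := ew_eq word_chk.2.2.1
  rw [ew_elW, ew_conj] at h
  exact h.symm

theorem n1_a : n1 * aEl * n1⁻¹ = a1El := by
  have h := ew_eq word_chk.2.2.2.1
  rw [ew_conj] at h
  exact h.symm

theorem a1_comm : a1El * el (1, 5) = el (1, 5) * a1El := by
  rw [← n1_s, ← n1_a]
  calc n1 * aEl * n1⁻¹ * (n1 * sEl * n1⁻¹) = n1 * (aEl * sEl) * n1⁻¹ := by group
    _ = n1 * (sEl * aEl) * n1⁻¹ := by rw [sa_comm.eq]
    _ = n1 * sEl * n1⁻¹ * (n1 * aEl * n1⁻¹) := by group

theorem h3_s : h3 * sEl = sEl * h3 := commW_eq word_chk.2.2.2.2.1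

theorem h3_p : h3 * pEl * h3⁻¹ = pEl ^ 2 := by
  have h := ew_eq word_chk.2.2.2.2.2.1
  rw [ew_rep, ew_conj] at h
  exact h.symm

/-- the six elements generate the subgroup on a, ..., s -/
theorem Lsub_le_of_mem {K : Subgroup P} (hs : sEl ∈ K) (hp : pEl ∈ K) (ha : aEl ∈ K)
    (h1 : a1El ∈ K) : H22Th.Lsub ≤ K := by
  have h6 : ew [6] ∈ K := by
    rw [ew_eq word_chk.2.2.2.2.2.2, ew_rep]; exact pow_mem hs _
  have hm : ∀ l, ew (mac6 l) ∈ K := by
    intro l
    unfold mac6
    split
    · exact hs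
    · exact h6
    · exact hp
    · rw [ew_rep]; exact pow_mem hp _
    · exact ha
    · exact h1
  have hg : ∀ l < 6, gen l ∈ K := by
    intro l hl
    rw [← H77.HN.evw_singleton gen l]
    rcases Nat.lt_succ_iff_lt_or_eq.mp hl with hl | rfl
    · have h := List.all_eq_true.mp word_chk.1 l (List.mem_range.mpr hl)
      show ew [l] ∈ K
      rw [ew_eq h]
      exact ew_flat_mem fun j _ => hm j
    · exact hs
  rw [H22Th.Lsub, Subgroup.closure_le]
  rintro y (rfl | rfl | rfl | rfl | rfl | rfl)
  · simpa [gen, H22Th.lett] using inv_mem (hg 0 (by norm_num))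
  · simpa [gen, H22Th.lett] using inv_mem (hg 1 (by norm_num))
  · simpa [gen, H22Th.lett] using inv_mem (hg 2 (by norm_num))
  · simpa [gen, H22Th.lett] using inv_mem (hg 3 (by norm_num))
  · simpa [gen, H22Th.lett] using inv_mem (hg 4 (by norm_num))
  · simpa [gen, H22Th.lett] using inv_mem (hg 5 (by norm_num))

/-- the subgroup whose conjugate by `u` is visible -/
noncomputable def Hsub : Subgroup P := Subgroup.closure (Set.range fun i => ew (hLet i))


theorem Hsub_chk :
    H93.Th.chainOK Tact 819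
      [(1, hLvl1.map fun m => m.flatMap hLet), (hPt2, hLvl2.map fun m => m.flatMap hLet)] = true ∧
    hLvl1.length = 768 ∧ hLvl2.length = 19 ∧
    ((List.range 7).all fun i => agree Tact B819 (hLet (i + 7) ++ hLet i) [] &&
      (Nat.beq i 3 || ((hLet i).all (fun l => Nat.blt l 7) &&
        (hImg.getD i []).all fun l => Nat.blt l 7))) = true ∧
    agree Tact B819 ([7] ++ [8]) [] = true ∧ hMac.length = 14 := by
  decide +kernel

theorem card_Hsub : 14592 ≤ Nat.card Hsub := by
  have h := H93.Th.chain_le H22Th.rep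
    [(1, hLvl1.map fun m => m.flatMap hLet), (hPt2, hLvl2.map fun m => m.flatMap hLet)] Hsub
    Hsub_chk.1 fun L hL w hw => by
      have : ∃ m : List ℕ, w = m.flatMap hLet := by
        simp only [List.mem_cons, List.not_mem_nil, or_false] at hL
        rcases hL with rfl | rfl <;>
        · obtain ⟨m, -, rfl⟩ := List.mem_map.mp hw
          exact ⟨m, rfl⟩
      obtain ⟨m, rfl⟩ := this
      exact ew_flat_mem fun l _ => Subgroup.subset_closure ⟨l, rfl⟩
  simpa [H93.Th.chainSize, Hsub_chk.2.1, Hsub_chk.2.2.1] using h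

end H87.ThOut
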