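import Cfsg.Agent.H87.ThOut.Cells
import Cfsg.Agent.H87.ThOut.Norm

/-!
An automorphism of a group with the cell structure is inner up to fixing the model pointwise.
-/

set_option autoImplicit false
set_option maxRecDepth 100000

namespace H87.ThOut

open MulAction
open H22Th (P)

variable {G : Type*} [Group G]

/-- what is used about the ambient group -/
structure Ctx (ι : P →* G) where
  fin : Finite G
  card_G : Nat.card G = 90745943887872000
  D : Cells ι
  S : Seven ι tp
  hQ : S.Q = Qsub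

namespace Ctx

variable {ι : P →* G} (C : Ctx ι)

/-- conjugation keeps the subgroup of order 49 -/
def Maps (ι : P →* G) (f : MulAut G) : Prop := ∀ v, ∃ w, f (ι (el v)) = ι (el w)

/-- conjugation by an element -/
abbrev cj (g : G) : MulAut G := MulAut.conj g

theorem Maps.mul {f g : MulAut G} (hf : Maps ι f) (hg : Maps ι g) : Maps ι (f * g) := fun v => by
  obtain ⟨w, hw⟩ := hg v
  obtain ⟨z, hz⟩ := hf w
  exact ⟨z, by rw [MulAut.mul_apply, hw, hz]⟩

theorem maps_conj_nv {n : P} {t r : ℕ × ℕ} (h1 : n * sEl * n⁻¹ = el t)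
    (h2 : n * pEl * n⁻¹ = el r) : Maps ι (cj (ι n)) := fun v =>
  ⟨_, by rw [cj, MulAut.conj_apply, ← map_inv, ← map_mul, ← map_mul, el_conj h1 h2 v]⟩

include C

theorem preim {f : MulAut G} (hf : Maps ι f) (w : ℕ × ℕ) : ∃ v, f (ι (el v)) = ι (el w) := by
  choose g hg using hf
  let F : Qsub → Qsub := fun q => ⟨el (g q.2.choose), el_mem _⟩
  have hF : Function.Injective F := by
    intro a b h
    have h' : el (g a.2.choose) = el (g b.2.choose) := congrArg Subtype.val h
    have h'' := congrArg ι h'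
    rw [← hg, ← hg] at h''
    exact Subtype.ext (a.2.choose_spec.trans ((C.D.inj (f.injective h'')).trans
      b.2.choose_spec.symm))
  obtain ⟨q, hq⟩ := Finite.injective_iff_surjective.mp hF ⟨el w, el_mem w⟩
  exact ⟨q.2.choose, (hg _).trans (congrArg (fun z : Qsub => ι (z : P)) hq)⟩

theorem maps_inv {f : MulAut G} (hf : Maps ι f) : Maps ι f⁻¹ := fun w => by
  obtain ⟨v, hv⟩ := C.preim hf w
  exact ⟨v, by rw [← hv, MulAut.inv_def, MulEquiv.symm_apply_apply]⟩

theorem cent_el {t : ℕ × ℕ} (ht : isA t = true) {g : G} (hg : g * ι (el t) = ι (el t) * g) :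
    g ∈ ι.range := by
  have := C.fin
  have : Fact (Nat.Prime 7) := ⟨by norm_num⟩
  refine Seven.centralizer_le C.D C.S (s := el t) (by rw [tp_el, ht]) ?_ hg
  refine orderOf_eq_prime ?_ fun e => ?_
  · rw [el_pow, el_eq_of_mod (v := (0, 0)) (by dsimp only; omega) (by dsimp only; omega), el_zero]
  · obtain ⟨e1, -⟩ := el_eq_one e
    simp [isA, e1] at ht

theorem isA_el {v w : ℕ × ℕ} (h : el v = el w) : isA v = isA w := by
  rw [← tp_el, h, tp_el]

theorem range_of_A {x : G} (hx : Maps ι (cj x)) {t t' : ℕ × ℕ} (ht : isA t = true)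
    (ht' : isA t' = true) (h : x * ι (el t) * x⁻¹ = ι (el t')) : x ∈ ι.range := by
  obtain ⟨m, r, hm, -⟩ := nv_exists ht
  obtain ⟨m', r', hm', -⟩ := nv_exists ht'
  have key : (ι m')⁻¹ * x * ι m ∈ ι.range := by
    refine C.cent_el (t := (1, 0)) flip_chk.2.2.2.1 ?_
    rw [el_s]
    rw [← hm, ← hm', map_mul, map_mul, map_mul, map_mul, map_inv, map_inv] at h
    calc (ι m')⁻¹ * x * ι m * ι sEl
        = (ι m')⁻¹ * (x * (ι m * ι sEl * (ι m)⁻¹) * x⁻¹) * (x * ι m) := by group
      _ = (ι m')⁻¹ * (ι m' * ι sEl * (ι m')⁻¹) * (x * ι m) := by rw [h]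
      _ = ι sEl * ((ι m')⁻¹ * x * ι m) := by group
  obtain ⟨k, hk⟩ := key
  exact ⟨m' * k * m⁻¹, by rw [map_mul, map_mul, map_inv, hk]; group⟩

theorem range_const {x : G} (hx : x ∈ ι.range) {v w : ℕ × ℕ}
    (h : x * ι (el v) * x⁻¹ = ι (el w)) : isA w = isA v := by
  obtain ⟨m, rfl⟩ := hx
  rw [← map_inv, ← map_mul, ← map_mul] at h
  rw [← tp_el, ← C.D.inj h, tp_conj, tp_el]

theorem gamma_type {v w : ℕ × ℕ} (hv : el v ≠ 1)
    (h : C.S.γ⁻¹ * ι (el v) * C.S.γ = ι (el w)) : isA w = !(isA v) := by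
  obtain ⟨y, hy, ht⟩ := C.S.γ_img _ (C.hQ ▸ el_mem v) hv
  rw [C.D.inj (hy.symm.trans h), tp_el, tp_el] at ht
  exact ht

variable (hγ : Maps ι (cj C.S.γ⁻¹))

include hγ

/-- an element normalising the subgroup keeps or exchanges the two kinds -/
theorem type_const {x : G} (hx : Maps ι (cj x)) : ∃ ε : Bool, ∀ v w, el v ≠ 1 →
    x * ι (el v) * x⁻¹ = ι (el w) → (isA w != isA v) = ε := by
  obtain ⟨w0, hw0⟩ := hx (1, 0)
  rw [cj, MulAut.conj_apply] at hw0
  cases h0 : isA w0 with
  | true =>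
    refine ⟨false, fun v w _ h => ?_⟩
    rw [C.range_const (C.range_of_A hx flip_chk.2.2.2.1 h0 hw0) h]
    cases isA v <;> rfl
  | false =>
    obtain ⟨z0, hz0⟩ := hγ w0
    rw [cj, MulAut.conj_apply, inv_inv] at hz0
    have hw1 : el w0 ≠ 1 := fun e => by
      rw [e, map_one, conj_eq_one_iff] at hw0
      have e1 := el_eq_one (C.D.inj (hw0.trans (map_one ι).symm))
      simp at e1
    have hzA : isA z0 = true := by rw [C.gamma_type hw1 hz0, h0]; rfl
    have hmem : C.S.γ⁻¹ * x ∈ ι.range := by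
      refine C.range_of_A ?_ flip_chk.2.2.2.1 hzA ?_
      · have e : cj (C.S.γ⁻¹ * x) = cj C.S.γ⁻¹ * cj x := map_mul MulAut.conj _ _
        rw [e]
        exact hγ.mul hx
      · rw [← hz0, ← hw0]; group
    refine ⟨true, fun v w hv h => ?_⟩
    obtain ⟨z, hz⟩ := hγ w
    rw [cj, MulAut.conj_apply, inv_inv] at hz
    have hw1' : el w ≠ 1 := fun e => by
      rw [e, map_one, conj_eq_one_iff] at h
      exact hv (C.D.inj (h.trans (map_one ι).symm))
    have e1 := C.range_const hmem (v := v) (w := z) (by rw [← hz, ← h]; group)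
    rw [C.gamma_type hw1' hz] at e1
    cases ha : isA w <;> cases hb : isA v <;> simp_all

omit hγ in
theorem linear {α : MulAut G} {a b c d : ℕ} (h1 : α (ι sEl) = ι (el (a, c)))
    (h2 : α (ι pEl) = ι (el (b, d))) (v : ℕ × ℕ) :
    α (ι (el v)) = ι (el (lin a b c d v)) := by
  rw [show el v = sEl ^ v.1 * pEl ^ v.2 from rfl, map_mul, map_pow, map_pow, map_mul, map_pow,
    map_pow, h1, h2, ← map_pow, ← map_pow, ← map_mul, el_pow, el_pow, el_mul]
  rfl

omit hγ in
theorem el_ne_of_det {α : MulAut G} {a b c d : ℕ} (hlin : ∀ v, α (ι (el v)) = ι (el (lin a b c d v))) :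
    (a * d + 6 * b * c) % 7 ≠ 0 := by
  intro hdet
  have z : ∀ v, el (lin a b c d v) = 1 → v.1 % 7 = 0 ∧ v.2 % 7 = 0 := fun v hv => by
    have h := hlin v
    rw [hv, map_one, MulEquiv.map_eq_one_iff] at h
    exact el_eq_one (C.D.inj (h.trans (map_one ι).symm))
  have m : ∀ i j, i % 7 = 0 → j % 7 = 0 → el (i, j) = 1 := fun i j hi hj => by
    rw [el_mod, hi, hj, el_zero]
  have key : ∀ x y : ℕ, (x * y + y * (6 * x)) % 7 = 0 := fun x y => by
    rw [show x * y + y * (6 * x) = 7 * (x * y) by ring]; omega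
  have e1 := z (b, 6 * a) (m _ _ (key a b) (by
    rw [show c * b + d * (6 * a) = 6 * (a * d) + b * c by ring]
    rw [show 6 * b * c = 6 * (b * c) by ring] at hdet
    omega))
  have e2 := z (d, 6 * c) (m _ _ (by
    rw [show a * d + b * (6 * c) = a * d + 6 * b * c by ring]; exact hdet) (key c d))
  dsimp only at e1 e2
  have e3 := z (1, 0) (m _ _ (by simp only [mul_one, mul_zero, add_zero]; omega)
    (by simp only [mul_one, mul_zero, add_zero]; omega))
  simp at e3

/-- the kinds are kept once the first line is kept -/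
theorem keeps_type {α : MulAut G} (hα : Maps ι α) {a b c d : ℕ}
    (hlin : ∀ v, α (ι (el v)) = ι (el (lin a b c d v)))
    (hs : isA (lin a b c d (1, 0)) = true) (v : ℕ × ℕ) :
    isA (lin a b c d v) = isA v := by
  have hdet := C.el_ne_of_det hlin
  have key : ∀ v, isA (lin (a % 7) (b % 7) (c % 7) (d % 7) v) = isA (lin a b c d v) := fun v => by
    refine C.isA_el (el_eq_of_mod ?_ ?_) <;> simp [lin, Nat.add_mod, Nat.mul_mod]
  have h := line_chk
  simp only [List.all_eq_true, List.mem_range] at h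
  have h' := h (a % 7) (Nat.mod_lt _ (by norm_num)) (b % 7) (Nat.mod_lt _ (by norm_num)) (c % 7)
    (Nat.mod_lt _ (by norm_num)) (d % 7) (Nat.mod_lt _ (by norm_num))
  simp only [lineChk, key, Bool.or_eq_true, Bool.not_eq_true', List.all_eq_true, List.mem_range,
    Nat.beq_eq, beq_iff_eq] at h'
  rcases h' with (h' | h') | h'
  · exact absurd (by simpa [Nat.add_mod, Nat.mul_mod] using h') hdet
  · exfalso
    rw [List.all_eq_false] at h'
    obtain ⟨⟨t, r, w⟩, hx, hne⟩ := h'
    obtain ⟨n1', n2'⟩ := nv_spec hx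
    obtain ⟨ε, hε⟩ := C.type_const hγ (x := α (ι (ew w))) (fun z => by
      obtain ⟨v, hv⟩ := C.preim hα z
      refine ⟨lin a b c d (lin t.1 r.1 t.2 r.2 v), ?_⟩
      rw [cj, MulAut.conj_apply, ← hv, ← map_inv, ← map_mul, ← map_mul, ← map_inv, ← map_mul,
        ← map_mul, el_conj n1' n2', hlin])
    have hv : ∀ v, (v.1 % 7 ≠ 0 ∨ v.2 % 7 ≠ 0) →
        (isA (lin a b c d (lin t.1 r.1 t.2 r.2 v)) != isA (lin a b c d v)) = ε := fun v hv => by
      refine hε _ _ (fun e => ?_) ?_
      · have h0 := hlin v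
        rw [e, map_one, MulEquiv.map_eq_one_iff] at h0
        obtain ⟨e1, e2⟩ := el_eq_one (C.D.inj (h0.trans (map_one ι).symm))
        omega
      · rw [← hlin, ← hlin, ← map_inv, ← map_mul, ← map_mul, ← map_inv, ← map_mul, ← map_mul,
          el_conj n1' n2']
    have e1 := hv (1, 0) (by simp)
    have e2 := hv (0, 1) (by simp)
    have e3 := hv (1, 5) (by simp)
    simp [lin] at e1 e2 e3 hne
    simp_all
  · have e := h' (v.1 % 7) (Nat.mod_lt _ (by norm_num)) (v.2 % 7) (Nat.mod_lt _ (by norm_num))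
    simp only [hs, Bool.true_eq_false, false_or] at e
    rw [isA_mod] at e
    rw [← e]
    refine C.isA_el (el_eq_of_mod ?_ ?_) <;> simp [lin, Nat.add_mod, Nat.mul_mod]

end Ctx

end H87.ThOut
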