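import Mathlib

/-!
Words for the automorphisms of the Thompson group (generated data): letters a b c d e s S t T = 0 .. 8.
-/

set_option autoImplicit false
set_option maxRecDepth 100000

namespace H87.ThOut

/-- an element of order seven -/
def sWord : List ℕ :=
  [5]

/-- a second one, commuting with the first -/
def pWord : List ℕ :=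
  [2,1,0,3,2,6,6,3,6,6]

/-- an involution commuting with the first -/
def aWord : List ℕ :=
  [0]

/-- the points fixed by `sWord` -/
def fPts : List ℕ :=
  [0,1,2,3,4,5,6,7,8,10,11,13,17,19,23,32,33,37,57,58,96]

/-- fixed points in the orbit of 1 -/
def yPts : List ℕ :=
  [1,2,3,4,5,7,8,11]

/-- words fixing 0 and 1 moving 50 over its orbit -/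
def lvl2 : List (List ℕ) :=
  [
  [], [3], [6], [3,6], [6,3], [6,4],
  [6,6], [6,8], [3,6,3], [3,6,4], [3,6,6], [3,6,8],
  [6,3,4], [6,3,8], [6,4,3], [6,4,6], [6,4,8], [6,6,3],
  [6,6,4], [6,6,6], [6,8,6], [3,6,3,4], [3,6,4,3], [3,6,4,6],
  [3,6,4,8], [3,6,6,4], [6,3,4,3], [6,3,4,6], [6,3,4,8], [6,4,3,6],
  [6,4,3,8], [6,4,6,3], [6,4,6,4], [6,4,6,8], [6,4,8,6], [6,6,4,3],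
  [6,6,4,6], [6,6,6,4], [6,8,6,4], [3,6,3,4,3], [3,6,3,4,6], [3,6,4,3,6],
  [3,6,4,3,8], [3,6,4,6,3], [3,6,4,6,4], [3,6,4,6,8], [3,6,6,4,3], [3,6,6,4,6],
  [6,3,4,3,6], [6,3,4,3,8], [6,3,4,6,3], [6,3,4,6,6], [6,3,4,6,8], [6,3,4,8,6],
  [6,4,3,6,4], [6,4,3,6,6], [6,4,3,6,8], [6,4,3,8,6], [6,4,6,3,4], [6,4,6,3,8],
  [6,4,6,4,3], [6,4,6,4,6], [6,4,6,8,8], [6,4,8,6,3], [6,4,8,6,6], [6,6,4,3,6],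
  [6,6,4,6,3], [6,6,4,6,4], [6,6,4,6,8], [6,6,6,4,3], [6,6,6,4,6], [6,8,6,4,3],
  [6,8,6,4,6], [3,6,3,4,3,6], [3,6,3,4,6,3], [3,6,3,4,6,6], [3,6,3,4,6,8], [3,6,4,3,6,4],
  [3,6,4,3,6,6], [3,6,4,3,6,8], [3,6,4,3,8,6], [3,6,4,6,3,4], [3,6,4,6,3,8], [3,6,4,6,4,3],
  [3,6,4,6,8,8], [3,6,6,4,3,6], [3,6,6,4,6,3], [3,6,6,4,6,8], [6,3,4,3,6,3], [6,3,4,3,6,4],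
  [6,3,4,3,6,6], [6,3,4,6,3,4], [6,3,4,6,8,8], [6,3,4,8,6,3], [6,4,3,6,4,6], [6,4,3,6,4,8],
  [6,4,3,6,6,3], [6,4,3,6,6,4], [6,4,3,6,6,6], [6,4,3,6,8,6], [6,4,3,8,6,4], [6,4,6,3,4,3],
  [6,4,6,3,4,6], [6,4,6,3,4,8], [6,4,8,6,6,4], [6,6,4,3,6,4], [6,6,4,6,3,4], [6,6,4,6,4,8],
  [6,6,6,4,6,3], [6,8,6,4,6,3], [6,8,6,4,6,6], [3,6,3,4,3,6,4], [3,6,3,4,3,6,6], [3,6,3,4,6,3,4],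
  [3,6,4,3,6,4,6], [3,6,4,3,6,4,8], [3,6,4,3,6,6,4], [3,6,4,3,6,6,6], [3,6,4,3,8,6,4], [3,6,4,6,3,4,3],
  [3,6,4,6,3,4,6], [3,6,4,6,3,4,8], [3,6,6,4,3,6,4], [3,6,6,4,6,3,4], [6,3,4,3,6,4,3], [6,3,4,3,6,6,4],
  [6,3,4,6,3,4,6], [6,3,4,8,6,3,4], [6,4,3,6,4,6,3], [6,4,3,6,4,6,4], [6,4,3,6,4,6,8], [6,4,3,6,4,8,6],
  [6,4,3,6,6,4,3], [6,4,3,6,6,4,6], [6,4,3,8,6,4,6], [6,4,6,3,4,3,6], [6,4,6,3,4,6,3], [6,4,6,3,4,6,8],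
  [6,6,4,6,3,4,6], [6,6,6,4,6,3,4], [3,6,3,4,3,6,6,4], [3,6,3,4,6,3,4,6], [3,6,4,3,6,4,6,4], [3,6,4,3,6,4,6,8],
  [3,6,4,6,3,4,3,6], [3,6,4,6,3,4,6,3], [3,6,4,6,3,4,6,8], [3,6,6,4,6,3,4,6], [6,3,4,3,6,4,3,6], [6,3,4,3,6,6,4,6],
  [6,3,4,6,3,4,6,3], [6,3,4,6,3,4,6,6], [6,3,4,6,3,4,6,8], [6,4,3,6,4,6,3,4], [6,4,3,6,4,6,3,8], [6,4,3,6,4,6,4,3],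
  [6,4,3,6,4,6,4,6], [6,4,3,6,4,6,8,6], [6,4,3,6,4,8,6,6], [6,4,3,6,6,4,3,6], [6,4,3,6,6,4,6,6], [6,4,3,8,6,4,6,8],
  [6,6,4,6,3,4,6,3], [3,6,3,4,3,6,6,4,6], [3,6,3,4,6,3,4,6,3], [3,6,3,4,6,3,4,6,6], [3,6,4,3,6,4,6,4,3], [3,6,4,3,6,4,6,4,6]]

/-- words fixing 0, 1 and 50 moving 26 over its orbit -/
def lvl3 : List (List ℕ) :=
  [
  [], [7], [4,3], [3,4], [5,5,7,7,6], [7,4,3],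
  [7,3,4], [4,3,5,5,7,7,6], [3,4,5,5,7,7,6]]

/-- normalising words, one for each target -/
def nvWord : List ((ℕ × ℕ) × (ℕ × ℕ) × List ℕ) :=
  [
  ((1,0),(0,1),[7,5,2,4,7,4,6,7,1,7,0,4,4,5,3,3,8,4,5,5,4,4,6,5,4,4,6,6,4,7,3,3,6,4,4,0,8,1,8,5,4,8,4,2,6,8]),
  ((1,3),(5,3),[0,0,5,4,1,4,1,7,4,5,4,1,4,1,3,2,4,4,4,8,4,3,4,4,5,1,4,7,4,4,8,4,4,2,3,7,6,4,0,8,2,0,2,4,6,7,0,3,4,4,8,7,0,0,3,2,4,1,2,7,2,5,4,0,3,2,5,4,3,4,7,7,5,4]),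
  ((1,5),(3,3),[2,6,4,0,4,4,8,3,1,0,1,3,3,2,4,3,4,8,4,2,6,7,4,5,8,6,1,3,8,8,2,5,3,4,4,2,4,4,8,5,4,5,4,2,0,6,2,4,0,3,0,4,4,0,8,7,4,5,8,1,2,3,7,4,3]),
  ((1,6),(6,3),[2,3,5,3,4,2,4,7,4,5,4,3,2,3,1,4,8,3,8,1,7,4,7,5,7,4,1,7,5,0,2,3,4,2,6,8,8,3,1,4,7,2,4,7,4,8,0,4,3,4,0,8,6,4]),
  ((2,0),(0,4),[7,5,2,4,7,4,6,7,1,7,0,4,4,5,3,3,8,4,5,5,4,4,6,6,3,3,0,4,4,7,4,4,7,4,5,4,0,4,8,0,5,4,6,5,8,4,4,0,2,8,1,4,7,7,0,6,2,1]),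
  ((2,3),(6,6),[1,0,7,0,4,0,6,4,5,0,3,8,3,1,3,6,4,4,4,2,7,0,1,0,4,4,8,8,3,4,3,3,6,7,1,4,2,5,4,3,0,2,0,4,3,1,0,4,2,6,4,8,6,1,4,4,4,4,4,5,1,8,3,4,7,2,1,8,7,0,5,4]),
  ((2,5),(6,3),[1,0,2,4,1,6,4,4,0,3,4,1,4,1,2,5,1,6,1,3,8,1,3,6,4,1,2,4,4,2,8,1,2,8,5,0,4,3,2,4,4,7,5,3,8,4,7,5,5,4,3,1,4,7,2,4,5,4,3,4,5,4,4,8,4,8,1,7,2,4,0,3,6,2,7,4,6,4,4]),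
  ((2,6),(3,6),[0,1,7,0,4,1,4,4,8,3,1,4,5,2,0,8,8,0,2,4,7,2,5,8,6,4,4,0,6,1,4,2,4,3,5,4,4,4,3,5,4,3,7,4,5,2,7,3,0,1,6,2,4,1,4,4,5,0,5,3,4,2,5,0,7,5,7,1,3,7,4,8,4,6,4]),
  ((3,0),(0,5),[1,0,7,5,2,4,7,4,6,7,1,7,0,4,4,5,3,3,8,4,5,5,4,4,6,8,4,4,0,4,0,8,2,1,5,0,7,4,6,2,5,3]),
  ((3,1),(4,4),[1,0,4,0,1,3,6,4,5,0,7,2,1,3,6,6,6,4,4,4,4,8,4,6,8,8,4,2,0,4,3,2,1,1,4,3,2,6,0,4,3,3,4,1,5,5,6,2,1,3,8,4,6,4,8,8,4,6,4,3,4,6,7,4,8,4,3,8]),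
  ((3,2),(4,1),[0,3,4,5,3,0,6,4,0,7,5,4,8,0,8,4,4,5,4,5,2,0,0,3,1,4,3,3,5,4,3,7,4,5,2,7,3,0,1,6,2,4,1,4,4,5,0,5,3,4,2,5,0,7,5,7,1,3,7,4,8,4,6,4]),
  ((3,4),(1,4),[0,1,3,3,3,1,4,6,0,3,2,4,8,4,4,5,4,0,3,2,1,2,0,4,1,3,0,4,2,3,5,0,3,1,6,6,1,1,1,4,0,6,4,4,3,7,1,0,4,4,0,2,3,4,6,6,4,2,0]),
  ((4,0),(0,4),[1,2,8,7,3,4,7,6,5,0,4,8,1,4,8,0,4,3,3,6,8,6,1,3,4,3,3,4,2,2,7,8,6,0,4,2,0,4,2,4,0,8,8,0,1,4,4,4,0,2,4,1,4]),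
  ((4,3),(5,6),[2,3,5,7,4,6,6,6,0,8,4,7,3,2,6,4,5,4,8,4,1,4,2,5,4,8,0,4,1,3,4,2,8,0,6,7,3,2,6,4,1,0,3,2,5,4,3,5,5,4,4,6,6,6,7,4]),
  ((4,5),(3,6),[4,3,4,4,1,1,5,7,6,0,7,4,4,2,5,4,3,4,4,4,1,3,5,4,3,7,4,5,2,7,3,0,1,6,2,4,1,4,4,5,0,5,3,4,2,5,0,7,5,7,1,3,7,4,8,4,6,4]),
  ((4,6),(6,6),[0,2,5,5,1,5,8,2,7,4,4,4,5,4,4,2,4,3,5,2,2,2,0,0,7,8,0,7,1,7,3,4,0,6,4,6,4,4,4,4,7,8,4,4,2,4,3,4,4,6,2,7,1,8,4,3,5,8,4,8,4,8,5,4,6,4,4,0,4,2,2,2,3,4,5,5,7,5,5]),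
  ((5,0),(0,5),[0,1,3,6,2,5,4,8,0,6,1,2,7,0,4,0,4,4,7,5,4,4,6,6,4,7,3,3,6,4,4,0,8,1,8,5,4,8,4,2,6,8]),
  ((5,1),(2,4),[1,0,2,5,6,4,4,4,2,3,0,7,7,2,4,6,4,4,0,4,4,1,8,1,3,6,5,4,4,2,8,7,4,1,4,4,3,3,5,4,3,7,4,5,2,7,3,0,1,6,2,4,1,4,4,5,0,5,3,4,2,5,0,7,5,7,1,3,7,4,8,4,6,4]),
  ((5,2),(1,4),[0,7,8,2,4,6,7,3,0,0,2,1,0,6,4,7,4,3,4,0,0,2,4,4,0,7,1,6,1,4,8,0,4,3,5,0,0,1,4,0,2,1,2,3,5,4,5,2,6,3,0,4,7,1,8,1,6,3,6,3,6,4,6,4,0,4,4,4,4,4,4,4]),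
  ((5,4),(4,4),[0,4,6,3,4,5,4,5,2,3,8,4,4,8,4,5,6,1,4,4,2,4,8,3,4,8,4,4,3,7,8,7,2,4,4,5,0,4,3,1,7,2,4,4,3,5,8,2,8,5,2,4]),
  ((6,0),(0,6),[2,4,2,5,4,1,4,1,6,4,1,4,5,4,1,5,8,4,6,4,4,4,6,6,6,6,4,1,4,6,7,5,5,1,6,4,5,4,0,8,6,4,6,4,4,4,3,7,7,5,4,4,6,8]),
  ((6,1),(2,1),[2,4,4,4,1,7,3,4,6,5,7,2,4,5,4,5,5,0,1,7,2,4,3,6,6,4,6,4,6,5,8,2,4,3,1,4,6,2,1,7,3,6,3,3,2,0,7,3,4,2,4,4,6,3,1,5,1,2,6,4,2,6,3]),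
  ((6,2),(4,4),[1,7,4,8,3,3,4,4,1,3,4,4,4,4,6,6,4,2,4,4,3,0,6,4,4,1,1,4,5,6,1,4,4,2,4,8,3,4,8,4,4,3,7,8,7,2,4,4,5,0,4,3,1,7,2,4,4,3,5,8,2,8,5,2,4]),
  ((6,4),(4,1),[0,1,4,1,3,4,7,6,2,4,8,3,0,1,4,3,5,4,3,7,4,5,2,7,3,0,1,6,2,4,1,4,4,5,0,5,3,4,2,5,0,7,5,7,1,3,7,4,8,4,6,4])]

/-- the normalising word for the second line -/
def n1Word : List ℕ :=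
  [2,6,4,0,4,4,8,3,1,0,1,3,3,2,4,3,4,8,4,2,6,7,4,5,8,6,1,3,8,8,2,5,3,4,4,2,4,4,8,5,4,5,4,2,0,6,2,4,0,3,0,4,4,0,8,7,4,5,8,1,2,3,7,4,3]

/-- the conjugate involution -/
def a1Word : List ℕ :=
  [3,4,8,3,2,1,7,6,4,8,7,0,4,4,0,3,0,4,2,5,0,2,4,6,4,6,7,4,4,2,4,4,3,6,2,7,7,3,1,5,7,6,4,8,5,2,4,7,4,3,4,2,3,3,1,0,1,3,7,4,4,0,4,5,2,0,2,6,4,0,4,4,8,3,1,0,1,3,3,2,4,3,4,8,4,2,6,7,4,5,8,6,1,3,8,8,2,5,3,4,4,2,4,4,8,5,4,5,4,2,0,6,2,4,0,3,0,4,4,0,8,7,4,5,8,1,2,3,7,4,3]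

/-- the letters a b c d e in the six elements s, s⁻¹, p, p⁻¹, a, a₁ -/
def genWord : List (List ℕ) :=
  [[4], [3,3,4,3,3,4], [2,2,2,4,2,4,2], [2,5,1,5,4,2,4,5,2,2,4,2,5,1,5,4,2,4,5,2,2], [2,2,5,4,2,5,4,5,1,5,1,5,4,2,5,2,2]]

/-- positive word in a b c d e s t u: swaps the two kinds of lines -/
def gammaPos : List ℕ :=
  [0,1,2,4,3,2,5,4,6,5,3,2,1,4,0,2,3,2,4,5,3,4,6,5,4,7,0,2,1,2,5,3,2,4,3,5,4,3,2,1,3,0,1,2,3,4,5,7,0,2,1,3,2,3,4,3,2,3,5,6,7,0,2,5,4,3,2,1,3,2,5,5,4,3,5,4,0,2,3,5,4,3,2,3]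

/-- positive word for the second cell -/
def wPos : List ℕ :=
  [1,3,2,1,5,4,3,2,5,4,3,6,5,0,1,2,1,4,3,2,5,4,5,3,4,3,7,0,2,1,2,3,2,1,3,2,5,5,4,6,5,3,0,1,2,1,3,2,4,5,5,4,7,0,2,1,3,2,5,3,4,3,2,3,5,6,7,0,2,3,5,3,0,1,4,3,2,5,3,4,3,2,5,1,3,4]

/-- image of s -/
def gammaS : ℕ × ℕ :=
  (0,1)

/-- image of p -/
def gammaP : ℕ × ℕ :=
  (5,0)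

/-- exponents of z -/
def wSrc : ℕ × ℕ :=
  (2,1)

/-- exponents of y -/
def wDst : ℕ × ℕ :=
  (0,1)

/-- elements of the centraliser moving 0, in the three generators -/
def cFix : List (List ℕ) :=
  [
  [], [1,1,2,1,1], [1,1,2,1,1,2], [1,1,1,1,1,1], [1,1,1,2,1], [1,2], [1,2,1,1], [1],
  [1,1,2,1,1,1], [1,2,1,1,1,1], [1,2,1,1,1], [1,1,1,1,1], [1,1,2,1], [1,1,2], [1,1,1,1,1,2], [1,1,1,2],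
  [1,1,2,1,1,2,1], [1,1], [1,1,1], [1,1,1,1], [1,2,1]]

/-- elements of the centraliser fixing 0 and moving 1, in the three generators -/
def cY : List (List ℕ) :=
  [
  [], [2], [1,1,1,2,1,2,1], [1,1,1,2,1,2,1,2], [1,2,1,2,1,1,1], [1,2,1,2,1,1,1,2], [1,2,1,1,1,1,1,1,2,1,2], [1,2,1,1,1,1,1,1,2,1]]

/-- squares the second element, in the three generators -/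
def h3Mac : List ℕ :=
  [2,1,1,2,1,2]

/-- generators of the intersection with a conjugate, then their inverses -/
def hMac : List (List ℕ) :=
  [[0], [2], [4], [7], [1,0,2,1], [5,5,4,6,6], [3,2,3], [0], [2], [4], [8], [1,2,0,1], [5,5,4,6,6], [3,2,3]]

/-- conjugates of the first seven by `u` -/
def hImg : List (List ℕ) :=
  [[0], [2], [4], [8], [1,0,2,1,4], [5,5,4,6,6], [2,5,4,3,2,3,6,6,4,3,2,3,6,4,3,2,3,5,4,5,4]]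

/-- words in them fixing 0 -/
def loop0 : List (List ℕ) :=
  [
  [0], [1], [6]]

/-- words in them fixing 1 -/
def loop1 : List (List ℕ) :=
  [
  [2], [3], [4]]

/-- words in them moving 1 -/
def hLvl1 : List (List ℕ) :=
  [
  [], [0], [1], [6], [0,1], [0,6], [1,6], [6,1],
  [6,2], [6,4], [6,5], [0,6,2], [0,6,4], [0,6,5], [1,6,2], [1,6,4],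
  [1,6,5], [6,1,2], [6,1,4], [6,1,5], [6,2,4], [6,2,5], [6,2,6], [6,4,5],
  [6,5,3], [6,5,6], [0,6,2,4], [0,6,2,5], [0,6,2,6], [0,6,4,5], [0,6,5,3], [0,6,5,6],
  [1,6,2,4], [1,6,2,5], [1,6,2,6], [1,6,4,5], [1,6,5,3], [1,6,5,6], [6,1,2,4], [6,1,2,5],
  [6,1,2,6], [6,1,4,5], [6,1,5,3], [6,1,5,6], [6,2,4,5], [6,2,4,6], [6,2,5,3], [6,2,5,6],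
  [6,2,6,4], [6,2,6,5], [6,4,5,3], [6,4,5,6], [6,5,3,3], [6,5,3,5], [6,5,3,6], [6,5,6,2],
  [6,5,6,4], [0,6,2,4,5], [0,6,2,4,6], [0,6,2,5,3], [0,6,2,5,6], [0,6,2,6,4], [0,6,2,6,5], [0,6,4,5,3],
  [0,6,4,5,6], [0,6,5,3,3], [0,6,5,3,5], [0,6,5,3,6], [0,6,5,6,2], [0,6,5,6,4], [1,6,2,4,5], [1,6,2,4,6],
  [1,6,2,5,3], [1,6,2,5,6], [1,6,2,6,4], [1,6,2,6,5], [1,6,4,5,3], [1,6,4,5,6], [1,6,5,3,3], [1,6,5,3,5],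
  [1,6,5,3,6], [1,6,5,6,2], [1,6,5,6,4], [6,1,2,4,5], [6,1,2,4,6], [6,1,2,5,3], [6,1,2,5,6], [6,1,2,6,4],
  [6,1,2,6,5], [6,1,4,5,3], [6,1,4,5,6], [6,1,5,3,3], [6,1,5,3,5], [6,1,5,3,6], [6,1,5,6,2], [6,1,5,6,4],
  [6,2,4,5,3], [6,2,4,5,6], [6,2,4,6,2], [6,2,4,6,4], [6,2,4,6,5], [6,2,5,3,6], [6,2,5,6,2], [6,2,5,6,4],
  [6,2,5,6,5], [6,2,6,4,5], [6,2,6,5,3], [6,2,6,5,6], [6,4,5,3,3], [6,4,5,3,5], [6,4,5,3,6], [6,4,5,6,2],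
  [6,4,5,6,4], [6,4,5,6,5], [6,5,3,3,6], [6,5,3,5,6], [6,5,3,6,2], [6,5,3,6,4], [6,5,3,6,5], [6,5,6,2,4],
  [6,5,6,2,6], [0,6,2,4,5,3], [0,6,2,4,5,6], [0,6,2,4,6,2], [0,6,2,4,6,4], [0,6,2,4,6,5], [0,6,2,5,3,6], [0,6,2,5,6,4],
  [0,6,2,6,4,5], [0,6,2,6,5,3], [0,6,2,6,5,6], [0,6,4,5,3,3], [0,6,4,5,3,5], [0,6,4,5,3,6], [0,6,4,5,6,2], [0,6,4,5,6,4],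
  [0,6,4,5,6,5], [0,6,5,3,3,6], [0,6,5,3,5,6], [0,6,5,3,6,2], [0,6,5,3,6,4], [0,6,5,3,6,5], [0,6,5,6,2,4], [0,6,5,6,2,6],
  [1,6,2,4,5,3], [1,6,2,4,5,6], [1,6,2,4,6,2], [1,6,2,4,6,4], [1,6,2,4,6,5], [1,6,2,5,3,6], [1,6,2,5,6,2], [1,6,2,5,6,4],
  [1,6,2,5,6,5], [1,6,2,6,4,5], [1,6,2,6,5,3], [1,6,2,6,5,6], [1,6,4,5,3,3], [1,6,4,5,3,5], [1,6,4,5,3,6], [1,6,4,5,6,2],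
  [1,6,4,5,6,4], [1,6,4,5,6,5], [1,6,5,3,3,6], [1,6,5,3,5,6], [1,6,5,3,6,2], [1,6,5,3,6,4], [1,6,5,3,6,5], [1,6,5,6,2,4],
  [1,6,5,6,2,6], [6,1,2,4,5,3], [6,1,2,4,5,6], [6,1,2,4,6,2], [6,1,2,4,6,4], [6,1,2,4,6,5], [6,1,2,5,3,6], [6,1,2,5,6,4],
  [6,1,2,6,4,5], [6,1,2,6,5,3], [6,1,2,6,5,6], [6,1,4,5,3,3], [6,1,4,5,3,5], [6,1,4,5,3,6], [6,1,4,5,6,2], [6,1,4,5,6,4],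
  [6,1,4,5,6,5], [6,1,5,3,3,6], [6,1,5,3,5,6], [6,1,5,3,6,2], [6,1,5,3,6,4], [6,1,5,3,6,5], [6,1,5,6,2,4], [6,1,5,6,2,6],
  [6,2,4,5,3,6], [6,2,4,5,6,2], [6,2,4,5,6,4], [6,2,4,5,6,5], [6,2,4,6,2,4], [6,2,4,6,2,5], [6,2,4,6,4,5], [6,2,4,6,5,3],
  [6,2,4,6,5,6], [6,2,5,3,6,2], [6,2,5,3,6,4], [6,2,5,3,6,5], [6,2,5,6,2,4], [6,2,5,6,2,6], [6,2,5,6,4,5], [6,2,5,6,5,3],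
  [6,2,5,6,5,6], [6,2,6,4,5,3], [6,2,6,4,5,6], [6,2,6,5,3,3], [6,2,6,5,3,5], [6,2,6,5,3,6], [6,2,6,5,6,2], [6,2,6,5,6,4],
  [6,4,5,3,3,6], [6,4,5,3,5,6], [6,4,5,3,6,2], [6,4,5,3,6,4], [6,4,5,3,6,5], [6,4,5,6,2,4], [6,4,5,6,2,5], [6,4,5,6,2,6],
  [6,4,5,6,4,5], [6,4,5,6,5,3], [6,5,3,3,6,2], [6,5,3,3,6,4], [6,5,3,3,6,5], [6,5,3,5,6,2], [6,5,3,5,6,4], [6,5,3,5,6,5],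
  [6,5,3,6,2,4], [6,5,3,6,2,5], [6,5,3,6,2,6], [6,5,3,6,4,5], [6,5,3,6,5,3], [6,5,3,6,5,6], [6,5,6,2,4,6], [6,5,6,2,6,4],
  [6,5,6,2,6,5], [0,6,2,4,5,3,6], [0,6,2,4,5,6,2], [0,6,2,4,5,6,4], [0,6,2,4,5,6,5], [0,6,2,4,6,2,4], [0,6,2,4,6,2,5], [0,6,2,4,6,4,5],
  [0,6,2,4,6,5,3], [0,6,2,4,6,5,6], [0,6,2,5,3,6,4], [0,6,2,5,3,6,5], [0,6,2,6,4,5,3], [0,6,2,6,4,5,6], [0,6,2,6,5,3,6], [0,6,2,6,5,6,4],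
  [0,6,4,5,3,3,6], [0,6,4,5,3,5,6], [0,6,4,5,3,6,2], [0,6,4,5,3,6,4], [0,6,4,5,3,6,5], [0,6,4,5,6,2,4], [0,6,4,5,6,2,5], [0,6,4,5,6,2,6],
  [0,6,4,5,6,4,5], [0,6,4,5,6,5,3], [0,6,5,3,3,6,2], [0,6,5,3,3,6,4], [0,6,5,3,3,6,5], [0,6,5,3,5,6,2], [0,6,5,3,5,6,4], [0,6,5,3,5,6,5],
  [0,6,5,3,6,2,4], [0,6,5,3,6,2,5], [0,6,5,3,6,2,6], [0,6,5,3,6,4,5], [0,6,5,3,6,5,3], [0,6,5,3,6,5,6], [0,6,5,6,2,4,6], [0,6,5,6,2,6,4],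
  [1,6,2,4,5,3,6], [1,6,2,4,5,6,2], [1,6,2,4,5,6,4], [1,6,2,4,5,6,5], [1,6,2,4,6,2,4], [1,6,2,4,6,2,5], [1,6,2,4,6,4,5], [1,6,2,4,6,5,3],
  [1,6,2,4,6,5,6], [1,6,2,5,3,6,2], [1,6,2,5,3,6,4], [1,6,2,5,3,6,5], [1,6,2,5,6,2,4], [1,6,2,5,6,2,6], [1,6,2,5,6,4,5], [1,6,2,5,6,5,3],
  [1,6,2,5,6,5,6], [1,6,2,6,4,5,3], [1,6,2,6,4,5,6], [1,6,2,6,5,3,3], [1,6,2,6,5,3,5], [1,6,2,6,5,3,6], [1,6,2,6,5,6,2], [1,6,2,6,5,6,4],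
  [1,6,4,5,3,3,6], [1,6,4,5,3,5,6], [1,6,4,5,3,6,2], [1,6,4,5,3,6,4], [1,6,4,5,3,6,5], [1,6,4,5,6,2,4], [1,6,4,5,6,2,5], [1,6,4,5,6,2,6],
  [1,6,4,5,6,4,5], [1,6,4,5,6,5,3], [1,6,5,3,3,6,2], [1,6,5,3,3,6,4], [1,6,5,3,3,6,5], [1,6,5,3,5,6,2], [1,6,5,3,5,6,4], [1,6,5,3,5,6,5],
  [1,6,5,3,6,2,4], [1,6,5,3,6,2,5], [1,6,5,3,6,2,6], [1,6,5,3,6,4,5], [1,6,5,3,6,5,3], [1,6,5,3,6,5,6], [1,6,5,6,2,4,6], [1,6,5,6,2,6,4],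
  [1,6,5,6,2,6,5], [6,1,2,4,5,3,6], [6,1,2,4,5,6,2], [6,1,2,4,5,6,4], [6,1,2,4,5,6,5], [6,1,2,4,6,2,4], [6,1,2,4,6,2,5], [6,1,2,4,6,4,5],
  [6,1,2,4,6,5,3], [6,1,2,4,6,5,6], [6,1,2,5,3,6,4], [6,1,2,5,3,6,5], [6,1,2,6,4,5,3], [6,1,2,6,4,5,6], [6,1,2,6,5,3,6], [6,1,2,6,5,6,4],
  [6,1,4,5,3,3,6], [6,1,4,5,3,5,6], [6,1,4,5,3,6,2], [6,1,4,5,3,6,4], [6,1,4,5,3,6,5], [6,1,4,5,6,2,4], [6,1,4,5,6,2,5], [6,1,4,5,6,2,6],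
  [6,1,4,5,6,4,5], [6,1,4,5,6,5,3], [6,1,5,3,3,6,2], [6,1,5,3,3,6,4], [6,1,5,3,3,6,5], [6,1,5,3,5,6,2], [6,1,5,3,5,6,4], [6,1,5,3,5,6,5],
  [6,1,5,3,6,2,4], [6,1,5,3,6,2,5], [6,1,5,3,6,2,6], [6,1,5,3,6,4,5], [6,1,5,3,6,5,3], [6,1,5,3,6,5,6], [6,1,5,6,2,4,6], [6,1,5,6,2,6,4],
  [6,2,4,5,3,6,2], [6,2,4,5,3,6,4], [6,2,4,5,3,6,5], [6,2,4,5,6,2,4], [6,2,4,5,6,2,5], [6,2,4,5,6,2,6], [6,2,4,5,6,4,5], [6,2,4,5,6,5,3],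
  [6,2,4,5,6,5,6], [6,2,4,6,2,4,5], [6,2,4,6,2,4,6], [6,2,4,6,2,5,3], [6,2,4,6,2,5,6], [6,2,4,6,4,5,3], [6,2,4,6,4,5,6], [6,2,4,6,5,3,3],
  [6,2,4,6,5,3,5], [6,2,4,6,5,3,6], [6,2,4,6,5,6,2], [6,2,4,6,5,6,4], [6,2,4,6,5,6,5], [6,2,5,3,6,2,4], [6,2,5,3,6,2,5], [6,2,5,3,6,2,6],
  [6,2,5,3,6,4,5], [6,2,5,3,6,5,6], [6,2,5,6,2,4,6], [6,2,5,6,2,6,4], [6,2,5,6,4,5,3], [6,2,5,6,4,5,6], [6,2,5,6,5,3,5], [6,2,5,6,5,3,6],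
  [6,2,5,6,5,6,4], [6,2,6,4,5,3,3], [6,2,6,4,5,3,5], [6,2,6,4,5,3,6], [6,2,6,4,5,6,2], [6,2,6,4,5,6,4], [6,2,6,4,5,6,5], [6,2,6,5,3,3,6],
  [6,2,6,5,3,5,6], [6,2,6,5,3,6,2], [6,2,6,5,3,6,4], [6,2,6,5,3,6,5], [6,2,6,5,6,2,6], [6,4,5,3,3,6,2], [6,4,5,3,3,6,4], [6,4,5,3,3,6,5],
  [6,4,5,3,5,6,2], [6,4,5,3,5,6,4], [6,4,5,3,5,6,5], [6,4,5,3,6,2,4], [6,4,5,3,6,2,5], [6,4,5,3,6,2,6], [6,4,5,3,6,4,5], [6,4,5,3,6,5,6],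
  [6,4,5,6,2,4,5], [6,4,5,6,2,4,6], [6,4,5,6,2,5,6], [6,4,5,6,2,6,2], [6,4,5,6,4,5,6], [6,4,5,6,5,3,3], [6,5,3,3,6,2,4], [6,5,3,3,6,2,6],
  [6,5,3,3,6,4,5], [6,5,3,3,6,5,3], [6,5,3,3,6,5,6], [6,5,3,5,6,2,4], [6,5,3,5,6,2,5], [6,5,3,5,6,2,6], [6,5,3,5,6,4,5], [6,5,3,5,6,5,3],
  [6,5,3,5,6,5,6], [6,5,3,6,2,4,5], [6,5,3,6,2,4,6], [6,5,3,6,2,5,6], [6,5,3,6,2,6,4], [6,5,3,6,2,6,5], [6,5,3,6,4,5,3], [6,5,3,6,4,5,6],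
  [6,5,3,6,5,3,3], [6,5,3,6,5,3,6], [6,5,3,6,5,6,2], [6,5,3,6,5,6,4], [6,5,3,6,5,6,5], [6,5,6,2,4,6,4], [6,5,6,2,6,5,3], [6,5,6,2,6,5,6],
  [0,6,2,4,5,3,6,5], [0,6,2,4,5,6,2,4], [0,6,2,4,5,6,2,5], [0,6,2,4,5,6,2,6], [0,6,2,4,5,6,4,5], [0,6,2,4,5,6,5,6], [0,6,2,4,6,2,4,5], [0,6,2,4,6,2,4,6],
  [0,6,2,4,6,2,5,3], [0,6,2,4,6,2,5,6], [0,6,2,4,6,4,5,3], [0,6,2,4,6,4,5,6], [0,6,2,4,6,5,3,3], [0,6,2,4,6,5,3,5], [0,6,2,4,6,5,3,6], [0,6,2,5,3,6,4,5],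
  [0,6,2,5,3,6,5,6], [0,6,2,6,4,5,3,6], [0,6,2,6,4,5,6,2], [0,6,2,6,4,5,6,4], [0,6,2,6,4,5,6,5], [0,6,4,5,3,3,6,2], [0,6,4,5,3,3,6,4], [0,6,4,5,3,3,6,5],
  [0,6,4,5,3,5,6,2], [0,6,4,5,3,5,6,4], [0,6,4,5,3,5,6,5], [0,6,4,5,3,6,2,4], [0,6,4,5,3,6,2,5], [0,6,4,5,3,6,2,6], [0,6,4,5,3,6,4,5], [0,6,4,5,6,2,4,6],
  [0,6,4,5,6,2,5,6], [0,6,4,5,6,2,6,2], [0,6,4,5,6,2,6,4], [0,6,4,5,6,2,6,5], [0,6,4,5,6,4,5,6], [0,6,4,5,6,5,3,3], [0,6,5,3,3,6,2,4], [0,6,5,3,3,6,2,6],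
  [0,6,5,3,3,6,4,5], [0,6,5,3,3,6,5,3], [0,6,5,3,3,6,5,6], [0,6,5,3,5,6,2,4], [0,6,5,3,5,6,2,5], [0,6,5,3,5,6,2,6], [0,6,5,3,5,6,4,5], [0,6,5,3,5,6,5,3],
  [0,6,5,3,6,2,4,5], [0,6,5,3,6,2,4,6], [0,6,5,3,6,2,5,6], [0,6,5,3,6,2,6,4], [0,6,5,3,6,2,6,5], [0,6,5,3,6,4,5,3], [0,6,5,3,6,4,5,6], [0,6,5,3,6,5,3,3],
  [0,6,5,3,6,5,3,6], [0,6,5,3,6,5,6,2], [0,6,5,3,6,5,6,4], [0,6,5,6,2,4,6,2], [0,6,5,6,2,4,6,4], [0,6,5,6,2,4,6,5], [1,6,2,4,5,3,6,2], [1,6,2,4,5,3,6,4],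
  [1,6,2,4,5,3,6,5], [1,6,2,4,5,6,2,4], [1,6,2,4,5,6,2,5], [1,6,2,4,5,6,5,3], [1,6,2,4,6,2,4,5], [1,6,2,4,6,2,4,6], [1,6,2,4,6,2,5,3], [1,6,2,4,6,2,5,6],
  [1,6,2,4,6,4,5,3], [1,6,2,4,6,4,5,6], [1,6,2,4,6,5,3,5], [1,6,2,4,6,5,3,6], [1,6,2,4,6,5,6,2], [1,6,2,4,6,5,6,4], [1,6,2,5,3,6,2,4], [1,6,2,5,3,6,2,5],
  [1,6,2,5,3,6,2,6], [1,6,2,5,3,6,4,5], [1,6,2,5,3,6,5,6], [1,6,2,5,6,2,4,6], [1,6,2,5,6,2,6,4], [1,6,2,5,6,4,5,3], [1,6,2,5,6,4,5,6], [1,6,2,5,6,5,3,5],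
  [1,6,2,5,6,5,3,6], [1,6,2,5,6,5,6,4], [1,6,2,6,4,5,3,3], [1,6,2,6,4,5,3,5], [1,6,2,6,4,5,6,2], [1,6,2,6,5,3,3,6], [1,6,2,6,5,6,2,6], [1,6,4,5,3,3,6,2],
  [1,6,4,5,3,3,6,4], [1,6,4,5,3,3,6,5], [1,6,4,5,3,5,6,2], [1,6,4,5,3,5,6,4], [1,6,4,5,3,5,6,5], [1,6,4,5,3,6,2,4], [1,6,4,5,3,6,2,5], [1,6,4,5,3,6,2,6],
  [1,6,4,5,3,6,4,5], [1,6,4,5,3,6,5,6], [1,6,4,5,6,2,4,6], [1,6,4,5,6,4,5,6], [1,6,4,5,6,5,3,3], [1,6,5,3,3,6,2,4], [1,6,5,3,3,6,2,6], [1,6,5,3,3,6,4,5],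
  [1,6,5,3,3,6,5,3], [1,6,5,3,3,6,5,6], [1,6,5,3,5,6,2,4], [1,6,5,3,5,6,2,5], [1,6,5,3,5,6,2,6], [1,6,5,3,5,6,4,5], [1,6,5,3,5,6,5,3], [1,6,5,3,5,6,5,6],
  [1,6,5,3,6,2,4,5], [1,6,5,3,6,2,4,6], [1,6,5,3,6,2,5,6], [1,6,5,3,6,2,6,4], [1,6,5,3,6,2,6,5], [1,6,5,3,6,4,5,3], [1,6,5,3,6,4,5,6], [1,6,5,3,6,5,3,3],
  [1,6,5,3,6,5,3,6], [1,6,5,3,6,5,6,5], [1,6,5,6,2,6,5,3], [1,6,5,6,2,6,5,6], [6,1,2,4,5,3,6,5], [6,1,2,4,5,6,2,4], [6,1,2,4,5,6,2,5], [6,1,2,4,6,2,4,5],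
  [6,1,2,4,6,2,4,6], [6,1,2,4,6,2,5,3], [6,1,2,4,6,2,5,6], [6,1,2,4,6,4,5,3], [6,1,2,4,6,4,5,6], [6,1,2,4,6,5,3,5], [6,1,2,4,6,5,3,6], [6,1,2,5,3,6,4,5],
  [6,1,2,5,3,6,5,6], [6,1,2,6,4,5,6,2], [6,1,2,6,4,5,6,4], [6,1,2,6,4,5,6,5], [6,1,4,5,3,3,6,2], [6,1,4,5,3,3,6,4], [6,1,4,5,3,3,6,5], [6,1,4,5,3,5,6,2],
  [6,1,4,5,3,5,6,4], [6,1,4,5,3,5,6,5], [6,1,4,5,3,6,2,4], [6,1,4,5,3,6,2,5], [6,1,4,5,3,6,2,6], [6,1,4,5,3,6,4,5], [6,1,4,5,6,2,4,6], [6,1,4,5,6,4,5,6],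
  [6,1,4,5,6,5,3,3], [6,1,5,3,3,6,2,4], [6,1,5,3,3,6,2,6], [6,1,5,3,3,6,4,5], [6,1,5,3,3,6,5,3], [6,1,5,3,3,6,5,6], [6,1,5,3,5,6,2,4], [6,1,5,3,5,6,2,5],
  [6,1,5,3,5,6,2,6], [6,1,5,3,5,6,4,5], [6,1,5,3,5,6,5,3], [6,1,5,3,6,2,4,5], [6,1,5,3,6,2,4,6], [6,1,5,3,6,2,5,6], [6,1,5,3,6,2,6,4], [6,1,5,3,6,2,6,5],
  [6,1,5,3,6,4,5,3], [6,1,5,3,6,4,5,6], [6,1,5,3,6,5,3,3], [6,1,5,3,6,5,3,6], [6,2,4,5,3,6,2,5], [6,2,4,5,3,6,2,6], [6,2,4,5,3,6,4,5], [6,2,4,5,6,2,4,5],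
  [6,2,4,5,6,2,5,3], [6,2,4,5,6,2,6,4], [6,2,4,5,6,2,6,5], [6,2,4,5,6,4,5,3], [6,2,4,5,6,5,3,5], [6,2,4,6,2,4,5,3], [6,2,4,6,2,4,5,6], [6,2,4,6,2,5,6,2],
  [6,2,4,6,2,5,6,4], [6,2,4,6,2,5,6,5], [6,2,4,6,4,5,3,3], [6,2,4,6,4,5,3,5], [6,2,4,6,4,5,6,4], [6,2,4,6,5,3,5,6], [6,2,4,6,5,3,6,2], [6,2,4,6,5,3,6,4],
  [6,2,4,6,5,3,6,5], [6,2,5,3,6,2,4,5], [6,2,5,3,6,2,4,6], [6,2,5,6,2,4,6,5], [6,2,5,6,4,5,3,5], [6,2,5,6,4,5,3,6], [6,2,5,6,4,5,6,2], [6,2,5,6,4,5,6,4],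
  [6,2,5,6,4,5,6,5], [6,2,6,4,5,3,6,2], [6,2,6,4,5,6,2,4], [6,2,6,4,5,6,2,5], [6,2,6,4,5,6,2,6], [6,2,6,5,3,6,2,6], [6,2,6,5,3,6,5,3], [6,2,6,5,3,6,5,6],
  [6,4,5,3,3,6,2,6], [6,4,5,3,3,6,5,3], [6,4,5,3,3,6,5,6], [6,4,5,3,5,6,2,5], [6,4,5,3,5,6,5,3], [6,4,5,3,6,2,4,5], [6,4,5,3,6,2,5,6], [6,4,5,3,6,2,6,2],
  [6,4,5,3,6,4,5,6], [6,4,5,3,6,5,6,4], [6,4,5,6,2,4,6,5], [6,4,5,6,2,5,6,2], [6,4,5,6,2,5,6,4], [6,4,5,6,2,5,6,5], [6,5,3,3,6,2,4,6], [6,5,3,3,6,4,5,3],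
  [6,5,3,3,6,4,5,6], [6,5,3,3,6,5,6,2], [6,5,3,3,6,5,6,4], [6,5,3,5,6,2,4,5], [6,5,3,5,6,2,4,6], [6,5,3,5,6,2,5,6], [6,5,3,5,6,2,6,4], [6,5,3,5,6,5,6,2],
  [6,5,3,5,6,5,6,4], [6,5,3,6,2,4,5,6], [6,5,3,6,2,4,6,4], [6,5,3,6,2,5,6,2], [6,5,3,6,4,5,3,3], [6,5,3,6,4,5,6,4], [6,5,3,6,5,6,2,5], [6,5,3,6,5,6,4,5],
  [6,5,6,2,6,5,3,6], [0,6,2,4,5,6,2,4,5], [0,6,2,4,5,6,2,6,4], [0,6,2,4,5,6,2,6,5], [0,6,2,4,6,2,4,5,3], [0,6,2,4,6,2,4,5,6], [0,6,2,4,6,2,5,6,4], [0,6,2,4,6,4,5,3,5],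
  [0,6,2,4,6,5,3,6,5], [0,6,2,6,4,5,3,6,2], [0,6,2,6,4,5,6,2,6], [0,6,4,5,3,3,6,5,3], [0,6,4,5,3,3,6,5,6], [0,6,4,5,3,5,6,5,3], [0,6,4,5,3,6,2,4,5], [0,6,4,5,3,6,2,5,6],
  [0,6,4,5,3,6,2,6,2], [0,6,4,5,3,6,4,5,6], [0,6,4,5,6,2,5,6,2], [0,6,4,5,6,2,6,2,4], [0,6,4,5,6,2,6,2,5], [0,6,5,3,3,6,2,4,6], [0,6,5,3,3,6,4,5,3], [0,6,5,3,3,6,4,5,6],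
  [0,6,5,3,3,6,5,3,6], [0,6,5,3,3,6,5,6,2], [0,6,5,3,5,6,2,4,5], [0,6,5,3,5,6,2,5,6], [0,6,5,3,6,2,4,5,6], [0,6,5,3,6,2,4,6,2], [0,6,5,3,6,2,4,6,4], [0,6,5,3,6,4,5,3,3],
  [0,6,5,3,6,4,5,3,6], [0,6,5,6,2,4,6,2,6], [0,6,5,6,2,4,6,5,6], [1,6,2,4,6,5,3,6,2], [1,6,2,4,6,5,3,6,4], [1,6,2,5,3,6,2,4,5], [1,6,2,5,3,6,2,4,6], [1,6,2,5,6,4,5,3,5],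
  [1,6,2,6,4,5,6,2,6], [1,6,4,5,3,3,6,5,3], [1,6,4,5,3,5,6,2,5], [1,6,5,3,5,6,2,4,6], [1,6,5,3,6,4,5,3,3], [1,6,5,6,2,6,5,3,6], [6,1,2,6,4,5,6,2,6], [6,1,5,3,6,4,5,3,3],
  [6,2,4,5,3,6,2,6,5], [6,2,4,5,6,2,4,5,3], [6,2,4,5,6,2,4,5,6], [6,2,4,6,2,5,6,4,5], [6,2,4,6,5,3,5,6,2], [6,2,5,6,4,5,6,2,5], [6,2,6,4,5,3,6,2,6], [6,4,5,3,5,6,2,5,3],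
  [6,4,5,6,2,5,6,2,4], [6,5,3,3,6,5,6,2,4], [0,6,2,4,5,6,2,4,5,6], [0,6,2,6,4,5,3,6,2,6], [6,2,4,5,6,2,4,5,3,6], [6,2,4,6,2,5,6,4,5,6], [6,2,5,6,4,5,6,2,5,6], [6,4,5,6,2,5,6,2,4,6]]

/-- a point -/
def hPt2 : ℕ :=
  51

/-- words in them fixing 1 moving the point -/
def hLvl2 : List (List ℕ) :=
  [
  [], [2], [3],
  [4], [5], [6,2,5,3,5,10,10,12,13],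
  [0,6,2,5,6,2,12,13,12,9,13], [0,6,2,6,5,3,3,12,10,12,13,9,13], [0,6,2,6,5,3,5,10,10,12,13,9,13],
  [6,2,5,3,6,5,3,12,13,12,10,12,13,7], [6,2,6,5,6,2,4,10,12,13,12,11,8,13], [6,4,5,6,2,5,3,11,13,12,13,9,8,13],
  [6,4,5,6,2,6,4,12,13,12,11,13,9,13], [2,4], [2,6,2,5,3,6,5,3,12,13,12,10,12,13,7],
  [2,6,2,6,5,6,2,4,10,12,13,12,11,8,13], [2,6,4,5,6,2,5,3,11,13,12,13,9,8,13], [2,6,4,5,6,2,6,4,12,13,12,11,13,9,13],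
  [3,4]]

/-- words fixing 0 moving 1 over its orbit -/
def lvl1 : List (List ℕ) :=
  [
  [], [0], [2], [0,2], [2,3], [0,2,3], [2,3,2], [2,3,4],
  [0,2,3,2], [0,2,3,4], [2,3,2,4], [2,3,4,5], [2,3,4,1,2,3,5,3,2,1], [0,2,3,2,4], [0,2,3,4,5], [0,2,3,4,1,2,3,5,3,2,1],
  [2,3,2,4,3], [2,3,2,4,5], [2,3,2,4,1,2,3,5,3,2,1], [2,3,4,5,4], [2,3,4,5,5], [2,3,4,1,2,3,5,3,2,1,7], [0,2,3,2,4,3], [0,2,3,2,4,5],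
  [0,2,3,2,4,1,2,3,5,3,2,1], [0,2,3,4,5,4], [0,2,3,4,5,5], [0,2,3,4,1,2,3,5,3,2,1,7], [2,3,2,4,3,2], [2,3,2,4,3,5], [2,3,2,4,3,1,2,3,5,3,2,1], [2,3,2,4,5,4],
  [2,3,2,4,5,5], [2,3,2,4,1,2,3,5,3,2,1,7], [2,3,4,5,4,3], [0,2,3,2,4,3,2], [0,2,3,2,4,3,5], [0,2,3,2,4,3,1,2,3,5,3,2,1], [0,2,3,2,4,5,4], [0,2,3,2,4,5,5],
  [0,2,3,2,4,1,2,3,5,3,2,1,7], [0,2,3,4,5,4,3], [2,3,2,4,3,2,5], [2,3,2,4,3,2,1,2,3,5,3,2,1], [2,3,2,4,3,5,4], [2,3,2,4,3,5,5], [2,3,2,4,3,1,2,3,5,3,2,1,4], [2,3,2,4,3,1,2,3,5,3,2,1,7],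
  [2,3,2,4,5,4,3], [2,3,2,4,5,4,5], [0,2,3,2,4,3,2,5], [0,2,3,2,4,3,2,1,2,3,5,3,2,1], [0,2,3,2,4,3,5,4], [0,2,3,2,4,3,5,5], [0,2,3,2,4,3,1,2,3,5,3,2,1,4], [0,2,3,2,4,3,1,2,3,5,3,2,1,7],
  [0,2,3,2,4,5,4,3], [0,2,3,2,4,5,4,5], [2,3,2,4,3,2,5,4], [2,3,2,4,3,2,5,5], [2,3,2,4,3,2,1,2,3,5,3,2,1,4], [2,3,2,4,3,2,1,2,3,5,3,2,1,7], [2,3,2,4,3,5,4,3], [2,3,2,4,3,5,4,5],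
  [2,3,2,4,3,5,4,7], [2,3,2,4,3,5,4,1,2,3,5,3,2,1], [2,3,2,4,3,5,5,5], [2,3,2,4,3,1,2,3,5,3,2,1,4,3], [2,3,2,4,3,1,2,3,5,3,2,1,4,5], [2,3,2,4,3,1,2,3,5,3,2,1,4,1,2,3,5,3,2,1], [2,3,2,4,5,4,3,2], [0,2,3,2,4,3,2,5,4],
  [0,2,3,2,4,3,2,5,5], [0,2,3,2,4,3,2,1,2,3,5,3,2,1,4], [0,2,3,2,4,3,2,1,2,3,5,3,2,1,7], [0,2,3,2,4,3,5,4,3], [0,2,3,2,4,3,5,4,5], [0,2,3,2,4,3,5,4,7], [0,2,3,2,4,3,5,4,1,2,3,5,3,2,1], [0,2,3,2,4,3,5,5,5],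
  [0,2,3,2,4,3,1,2,3,5,3,2,1,4,3], [0,2,3,2,4,3,1,2,3,5,3,2,1,4,5], [0,2,3,2,4,3,1,2,3,5,3,2,1,4,1,2,3,5,3,2,1], [0,2,3,2,4,5,4,3,2], [2,3,2,4,3,2,5,4,3], [2,3,2,4,3,2,5,4,5], [2,3,2,4,3,2,5,4,7], [2,3,2,4,3,2,5,4,1,2,3,5,3,2,1],
  [2,3,2,4,3,2,5,5,5], [2,3,2,4,3,2,1,2,3,5,3,2,1,4,3], [2,3,2,4,3,2,1,2,3,5,3,2,1,4,5], [2,3,2,4,3,2,1,2,3,5,3,2,1,4,7], [2,3,2,4,3,2,1,2,3,5,3,2,1,4,1,2,3,5,3,2,1], [2,3,2,4,3,5,4,3,5], [2,3,2,4,3,5,4,3,7], [2,3,2,4,3,5,4,3,1,2,3,5,3,2,1],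
  [2,3,2,4,3,5,4,5,4], [2,3,2,4,3,5,4,5,5], [2,3,2,4,3,5,4,5,7], [2,3,2,4,3,5,4,7,5], [2,3,2,4,3,5,4,7,1,2,3,5,3,2,1], [2,3,2,4,3,5,4,1,2,3,5,3,2,1,7], [2,3,2,4,3,5,4,1,2,3,5,3,2,1,1,2,3,5,3,2,1], [2,3,2,4,3,1,2,3,5,3,2,1,4,3,2],
  [2,3,2,4,3,1,2,3,5,3,2,1,4,3,1,2,3,5,3,2,1], [2,3,2,4,3,1,2,3,5,3,2,1,4,5,5], [2,3,2,4,3,1,2,3,5,3,2,1,4,1,2,3,5,3,2,1,4], [2,3,2,4,3,1,2,3,5,3,2,1,4,1,2,3,5,3,2,1,7], [2,3,2,4,5,4,3,2,3], [0,2,3,2,4,3,2,5,4,3], [0,2,3,2,4,3,2,5,4,5], [0,2,3,2,4,3,2,5,4,7],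
  [0,2,3,2,4,3,2,5,4,1,2,3,5,3,2,1], [0,2,3,2,4,3,2,1,2,3,5,3,2,1,4,3], [0,2,3,2,4,3,2,1,2,3,5,3,2,1,4,5], [0,2,3,2,4,3,2,1,2,3,5,3,2,1,4,7], [0,2,3,2,4,3,2,1,2,3,5,3,2,1,4,1,2,3,5,3,2,1], [0,2,3,2,4,3,5,4,3,1,2,3,5,3,2,1], [0,2,3,2,4,3,5,4,5,4], [0,2,3,2,4,3,5,4,5,7],
  [0,2,3,2,4,3,5,4,7,1,2,3,5,3,2,1], [0,2,3,2,4,3,5,4,1,2,3,5,3,2,1,7], [0,2,3,2,4,3,1,2,3,5,3,2,1,4,3,2], [0,2,3,2,4,3,1,2,3,5,3,2,1,4,3,1,2,3,5,3,2,1], [0,2,3,2,4,3,1,2,3,5,3,2,1,4,5,5], [0,2,3,2,4,3,1,2,3,5,3,2,1,4,1,2,3,5,3,2,1,4], [2,3,2,4,3,2,5,4,3,2], [2,3,2,4,3,2,5,4,3,5],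
  [2,3,2,4,3,2,5,4,3,7], [2,3,2,4,3,2,5,4,3,1,2,3,5,3,2,1], [2,3,2,4,3,2,5,4,5,4], [2,3,2,4,3,2,5,4,5,5], [2,3,2,4,3,2,5,4,5,7], [2,3,2,4,3,2,5,4,7,5], [2,3,2,4,3,2,5,4,7,1,2,3,5,3,2,1], [2,3,2,4,3,2,5,4,1,2,3,5,3,2,1,7],
  [2,3,2,4,3,2,5,4,1,2,3,5,3,2,1,1,2,3,5,3,2,1], [2,3,2,4,3,2,5,5,5,4], [2,3,2,4,3,2,1,2,3,5,3,2,1,4,3,2], [2,3,2,4,3,2,1,2,3,5,3,2,1,4,3,5], [2,3,2,4,3,2,1,2,3,5,3,2,1,4,3,7], [2,3,2,4,3,2,1,2,3,5,3,2,1,4,3,1,2,3,5,3,2,1], [2,3,2,4,3,2,1,2,3,5,3,2,1,4,5,5], [2,3,2,4,3,2,1,2,3,5,3,2,1,4,7,5],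
  [2,3,2,4,3,2,1,2,3,5,3,2,1,4,7,1,2,3,5,3,2,1], [2,3,2,4,3,2,1,2,3,5,3,2,1,4,1,2,3,5,3,2,1,4], [2,3,2,4,3,2,1,2,3,5,3,2,1,4,1,2,3,5,3,2,1,7], [2,3,2,4,3,5,4,3,5,4], [2,3,2,4,3,5,4,5,5,7], [2,3,2,4,3,1,2,3,5,3,2,1,4,3,2,3], [2,3,2,4,3,1,2,3,5,3,2,1,4,3,2,1,2,3,5,3,2,1], [0,2,3,2,4,3,2,5,4,3,2],
  [0,2,3,2,4,3,2,5,4,3,5], [0,2,3,2,4,3,2,5,4,3,7], [0,2,3,2,4,3,2,5,4,3,1,2,3,5,3,2,1], [0,2,3,2,4,3,2,5,4,5,4], [0,2,3,2,4,3,2,5,4,5,7], [0,2,3,2,4,3,2,5,4,7,1,2,3,5,3,2,1], [0,2,3,2,4,3,2,5,4,1,2,3,5,3,2,1,7], [0,2,3,2,4,3,2,1,2,3,5,3,2,1,4,3,2],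
  [0,2,3,2,4,3,2,1,2,3,5,3,2,1,4,3,5], [0,2,3,2,4,3,2,1,2,3,5,3,2,1,4,3,7], [0,2,3,2,4,3,2,1,2,3,5,3,2,1,4,3,1,2,3,5,3,2,1], [0,2,3,2,4,3,2,1,2,3,5,3,2,1,4,5,5], [0,2,3,2,4,3,2,1,2,3,5,3,2,1,4,7,1,2,3,5,3,2,1], [0,2,3,2,4,3,2,1,2,3,5,3,2,1,4,1,2,3,5,3,2,1,4], [0,2,3,2,4,3,1,2,3,5,3,2,1,4,3,2,3], [0,2,3,2,4,3,1,2,3,5,3,2,1,4,3,2,1,2,3,5,3,2,1],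
  [2,3,2,4,3,2,5,4,3,2,3], [2,3,2,4,3,2,5,4,3,2,5], [2,3,2,4,3,2,5,4,3,2,7], [2,3,2,4,3,2,5,4,3,2,1,2,3,5,3,2,1], [2,3,2,4,3,2,5,4,3,5,4], [2,3,2,4,3,2,5,4,3,5,5], [2,3,2,4,3,2,5,4,3,5,7], [2,3,2,4,3,2,5,4,3,7,5],
  [2,3,2,4,3,2,5,4,3,7,1,2,3,5,3,2,1], [2,3,2,4,3,2,5,4,3,1,2,3,5,3,2,1,4], [2,3,2,4,3,2,5,4,3,1,2,3,5,3,2,1,7], [2,3,2,4,3,2,5,4,3,1,2,3,5,3,2,1,1,2,3,5,3,2,1], [2,3,2,4,3,2,5,4,5,4,3], [2,3,2,4,3,2,5,4,5,5,7], [2,3,2,4,3,2,5,5,5,4,3], [2,3,2,4,3,2,1,2,3,5,3,2,1,4,3,2,3],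
  [2,3,2,4,3,2,1,2,3,5,3,2,1,4,3,2,5], [2,3,2,4,3,2,1,2,3,5,3,2,1,4,3,2,7], [2,3,2,4,3,2,1,2,3,5,3,2,1,4,3,2,1,2,3,5,3,2,1], [2,3,2,4,3,2,1,2,3,5,3,2,1,4,3,5,4], [2,3,2,4,3,2,1,2,3,5,3,2,1,4,3,5,7], [2,3,2,4,3,2,1,2,3,5,3,2,1,4,3,7,5], [2,3,2,4,3,2,1,2,3,5,3,2,1,4,3,7,1,2,3,5,3,2,1], [2,3,2,4,3,2,1,2,3,5,3,2,1,4,3,1,2,3,5,3,2,1,4],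
  [2,3,2,4,3,2,1,2,3,5,3,2,1,4,3,1,2,3,5,3,2,1,1,2,3,5,3,2,1], [2,3,2,4,3,2,1,2,3,5,3,2,1,4,7,5,4], [2,3,2,4,3,2,1,2,3,5,3,2,1,4,1,2,3,5,3,2,1,4,3], [2,3,2,4,3,1,2,3,5,3,2,1,4,3,2,3,2], [2,3,2,4,3,1,2,3,5,3,2,1,4,3,2,3,5], [0,2,3,2,4,3,2,5,4,3,2,5], [0,2,3,2,4,3,2,5,4,3,2,7], [0,2,3,2,4,3,2,5,4,3,2,1,2,3,5,3,2,1],
  [0,2,3,2,4,3,2,5,4,3,5,4], [0,2,3,2,4,3,2,5,4,3,5,7], [0,2,3,2,4,3,2,5,4,3,7,5], [0,2,3,2,4,3,2,5,4,3,1,2,3,5,3,2,1,4], [0,2,3,2,4,3,2,5,4,3,1,2,3,5,3,2,1,7], [0,2,3,2,4,3,2,5,4,5,4,3], [0,2,3,2,4,3,2,1,2,3,5,3,2,1,4,3,2,5], [0,2,3,2,4,3,2,1,2,3,5,3,2,1,4,3,2,1,2,3,5,3,2,1],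
  [0,2,3,2,4,3,2,1,2,3,5,3,2,1,4,3,5,4], [0,2,3,2,4,3,2,1,2,3,5,3,2,1,4,3,7,5], [0,2,3,2,4,3,2,1,2,3,5,3,2,1,4,3,1,2,3,5,3,2,1,4], [0,2,3,2,4,3,2,1,2,3,5,3,2,1,4,3,1,2,3,5,3,2,1,1,2,3,5,3,2,1], [0,2,3,2,4,3,2,1,2,3,5,3,2,1,4,1,2,3,5,3,2,1,4,3], [0,2,3,2,4,3,1,2,3,5,3,2,1,4,3,2,3,5], [2,3,2,4,3,2,5,4,3,2,3,5], [2,3,2,4,3,2,5,4,3,2,3,7],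
  [2,3,2,4,3,2,5,4,3,2,3,1,2,3,5,3,2,1], [2,3,2,4,3,2,5,4,3,2,5,4], [2,3,2,4,3,2,5,4,3,2,5,7], [2,3,2,4,3,2,5,4,3,2,7,5], [2,3,2,4,3,2,5,4,3,2,1,2,3,5,3,2,1,4], [2,3,2,4,3,2,5,4,3,2,1,2,3,5,3,2,1,7], [2,3,2,4,3,2,5,4,3,2,1,2,3,5,3,2,1,1,2,3,5,3,2,1], [2,3,2,4,3,2,5,4,3,5,4,5],
  [2,3,2,4,3,2,5,4,3,5,4,7], [2,3,2,4,3,2,5,4,3,5,4,1,2,3,5,3,2,1], [2,3,2,4,3,2,5,4,3,5,5,4], [2,3,2,4,3,2,5,4,3,5,7,5], [2,3,2,4,3,2,5,4,3,7,5,4], [2,3,2,4,3,2,5,4,3,1,2,3,5,3,2,1,4,3], [2,3,2,4,3,2,5,4,3,1,2,3,5,3,2,1,4,5], [2,3,2,4,3,2,5,4,3,1,2,3,5,3,2,1,4,7],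
  [2,3,2,4,3,2,5,4,3,1,2,3,5,3,2,1,1,2,3,5,3,2,1,4], [2,3,2,4,3,2,5,4,5,4,3,2], [2,3,2,4,3,2,5,5,5,4,3,2], [2,3,2,4,3,2,1,2,3,5,3,2,1,4,3,2,3,5], [2,3,2,4,3,2,1,2,3,5,3,2,1,4,3,2,5,4], [2,3,2,4,3,2,1,2,3,5,3,2,1,4,3,2,5,7], [2,3,2,4,3,2,1,2,3,5,3,2,1,4,3,2,7,5], [2,3,2,4,3,2,1,2,3,5,3,2,1,4,3,2,7,1,2,3,5,3,2,1],
  [2,3,2,4,3,2,1,2,3,5,3,2,1,4,3,2,1,2,3,5,3,2,1,4], [2,3,2,4,3,2,1,2,3,5,3,2,1,4,3,2,1,2,3,5,3,2,1,1,2,3,5,3,2,1], [2,3,2,4,3,2,1,2,3,5,3,2,1,4,3,5,4,3], [2,3,2,4,3,2,1,2,3,5,3,2,1,4,3,5,4,5], [2,3,2,4,3,2,1,2,3,5,3,2,1,4,3,5,4,7], [2,3,2,4,3,2,1,2,3,5,3,2,1,4,3,5,4,1,2,3,5,3,2,1], [2,3,2,4,3,2,1,2,3,5,3,2,1,4,3,5,7,7], [2,3,2,4,3,2,1,2,3,5,3,2,1,4,3,7,5,4],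
  [2,3,2,4,3,2,1,2,3,5,3,2,1,4,3,7,1,2,3,5,3,2,1,4], [2,3,2,4,3,2,1,2,3,5,3,2,1,4,3,1,2,3,5,3,2,1,4,5], [2,3,2,4,3,2,1,2,3,5,3,2,1,4,3,1,2,3,5,3,2,1,4,1,2,3,5,3,2,1], [2,3,2,4,3,2,1,2,3,5,3,2,1,4,3,1,2,3,5,3,2,1,1,2,3,5,3,2,1,4], [2,3,2,4,3,2,1,2,3,5,3,2,1,4,1,2,3,5,3,2,1,4,3,2], [2,3,2,4,3,1,2,3,5,3,2,1,4,3,2,3,2,5], [2,3,2,4,3,1,2,3,5,3,2,1,4,3,2,3,5,4], [0,2,3,2,4,3,2,5,4,3,2,5,4],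
  [0,2,3,2,4,3,2,5,4,3,2,5,7], [0,2,3,2,4,3,2,5,4,3,2,7,5], [0,2,3,2,4,3,2,5,4,3,2,1,2,3,5,3,2,1,4], [0,2,3,2,4,3,2,5,4,3,2,1,2,3,5,3,2,1,7], [0,2,3,2,4,3,2,5,4,3,5,4,5], [0,2,3,2,4,3,2,5,4,3,5,4,7], [0,2,3,2,4,3,2,5,4,3,5,4,1,2,3,5,3,2,1], [0,2,3,2,4,3,2,5,4,3,7,5,4],
  [0,2,3,2,4,3,2,5,4,3,1,2,3,5,3,2,1,4,3], [0,2,3,2,4,3,2,5,4,3,1,2,3,5,3,2,1,4,5], [0,2,3,2,4,3,2,5,4,3,1,2,3,5,3,2,1,4,7], [0,2,3,2,4,3,2,5,4,5,4,3,2], [0,2,3,2,4,3,2,1,2,3,5,3,2,1,4,3,2,5,4], [0,2,3,2,4,3,2,1,2,3,5,3,2,1,4,3,2,1,2,3,5,3,2,1,4], [0,2,3,2,4,3,2,1,2,3,5,3,2,1,4,3,2,1,2,3,5,3,2,1,1,2,3,5,3,2,1], [0,2,3,2,4,3,2,1,2,3,5,3,2,1,4,3,5,4,3],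
  [0,2,3,2,4,3,2,1,2,3,5,3,2,1,4,3,5,4,5], [0,2,3,2,4,3,2,1,2,3,5,3,2,1,4,3,5,4,1,2,3,5,3,2,1], [0,2,3,2,4,3,2,1,2,3,5,3,2,1,4,3,7,5,4], [0,2,3,2,4,3,2,1,2,3,5,3,2,1,4,3,1,2,3,5,3,2,1,4,5], [0,2,3,2,4,3,2,1,2,3,5,3,2,1,4,3,1,2,3,5,3,2,1,4,1,2,3,5,3,2,1], [0,2,3,2,4,3,2,1,2,3,5,3,2,1,4,3,1,2,3,5,3,2,1,1,2,3,5,3,2,1,4], [0,2,3,2,4,3,2,1,2,3,5,3,2,1,4,1,2,3,5,3,2,1,4,3,2], [0,2,3,2,4,3,1,2,3,5,3,2,1,4,3,2,3,5,4],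
  [2,3,2,4,3,2,5,4,3,2,3,5,4], [2,3,2,4,3,2,5,4,3,2,3,1,2,3,5,3,2,1,4], [2,3,2,4,3,2,5,4,3,2,5,4,3], [2,3,2,4,3,2,5,4,3,2,5,4,5], [2,3,2,4,3,2,5,4,3,2,5,4,7], [2,3,2,4,3,2,5,4,3,2,5,4,1,2,3,5,3,2,1], [2,3,2,4,3,2,5,4,3,2,5,7,5], [2,3,2,4,3,2,5,4,3,2,7,5,4],
  [2,3,2,4,3,2,5,4,3,2,1,2,3,5,3,2,1,4,3], [2,3,2,4,3,2,5,4,3,2,1,2,3,5,3,2,1,4,5], [2,3,2,4,3,2,5,4,3,2,1,2,3,5,3,2,1,4,7], [2,3,2,4,3,2,5,4,3,2,1,2,3,5,3,2,1,1,2,3,5,3,2,1,4], [2,3,2,4,3,2,5,4,3,5,4,5,4], [2,3,2,4,3,2,5,4,3,5,4,5,5], [2,3,2,4,3,2,5,4,3,5,4,1,2,3,5,3,2,1,7], [2,3,2,4,3,2,5,4,3,5,4,1,2,3,5,3,2,1,1,2,3,5,3,2,1],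
  [2,3,2,4,3,2,5,4,3,5,5,4,3], [2,3,2,4,3,2,5,4,3,5,5,4,1,2,3,5,3,2,1], [2,3,2,4,3,2,5,4,3,1,2,3,5,3,2,1,4,3,2], [2,3,2,4,3,2,5,4,3,1,2,3,5,3,2,1,4,3,1,2,3,5,3,2,1], [2,3,2,4,3,2,5,4,3,1,2,3,5,3,2,1,4,5,5], [2,3,2,4,3,2,5,4,3,1,2,3,5,3,2,1,4,5,7], [2,3,2,4,3,2,5,4,3,1,2,3,5,3,2,1,4,7,5], [2,3,2,4,3,2,5,4,3,1,2,3,5,3,2,1,1,2,3,5,3,2,1,4,1,2,3,5,3,2,1],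
  [2,3,2,4,3,2,1,2,3,5,3,2,1,4,3,2,3,5,4], [2,3,2,4,3,2,1,2,3,5,3,2,1,4,3,2,5,4,3], [2,3,2,4,3,2,1,2,3,5,3,2,1,4,3,2,5,4,5], [2,3,2,4,3,2,1,2,3,5,3,2,1,4,3,2,5,4,7], [2,3,2,4,3,2,1,2,3,5,3,2,1,4,3,2,5,4,1,2,3,5,3,2,1], [2,3,2,4,3,2,1,2,3,5,3,2,1,4,3,2,5,7,7], [2,3,2,4,3,2,1,2,3,5,3,2,1,4,3,2,7,5,4], [2,3,2,4,3,2,1,2,3,5,3,2,1,4,3,2,7,1,2,3,5,3,2,1,4],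
  [2,3,2,4,3,2,1,2,3,5,3,2,1,4,3,2,1,2,3,5,3,2,1,4,3], [2,3,2,4,3,2,1,2,3,5,3,2,1,4,3,2,1,2,3,5,3,2,1,4,5], [2,3,2,4,3,2,1,2,3,5,3,2,1,4,3,2,1,2,3,5,3,2,1,4,1,2,3,5,3,2,1], [2,3,2,4,3,2,1,2,3,5,3,2,1,4,3,2,1,2,3,5,3,2,1,1,2,3,5,3,2,1,4], [2,3,2,4,3,2,1,2,3,5,3,2,1,4,3,5,4,3,2], [2,3,2,4,3,2,1,2,3,5,3,2,1,4,3,5,4,3,5], [2,3,2,4,3,2,1,2,3,5,3,2,1,4,3,5,4,3,1,2,3,5,3,2,1], [2,3,2,4,3,2,1,2,3,5,3,2,1,4,3,5,4,5,4],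
  [2,3,2,4,3,2,1,2,3,5,3,2,1,4,3,5,4,5,5], [2,3,2,4,3,2,1,2,3,5,3,2,1,4,3,5,4,7,5], [2,3,2,4,3,2,1,2,3,5,3,2,1,4,3,5,4,7,1,2,3,5,3,2,1], [2,3,2,4,3,2,1,2,3,5,3,2,1,4,3,7,5,4,1,2,3,5,3,2,1], [2,3,2,4,3,2,1,2,3,5,3,2,1,4,3,1,2,3,5,3,2,1,4,5,7], [2,3,2,4,3,2,1,2,3,5,3,2,1,4,3,1,2,3,5,3,2,1,4,1,2,3,5,3,2,1,4], [2,3,2,4,3,2,1,2,3,5,3,2,1,4,3,1,2,3,5,3,2,1,4,1,2,3,5,3,2,1,7], [2,3,2,4,3,1,2,3,5,3,2,1,4,3,2,3,2,5,4],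
  [2,3,2,4,3,1,2,3,5,3,2,1,4,3,2,3,5,4,5], [0,2,3,2,4,3,2,5,4,3,2,5,4,3], [0,2,3,2,4,3,2,5,4,3,2,5,4,5], [0,2,3,2,4,3,2,5,4,3,2,5,4,7], [0,2,3,2,4,3,2,5,4,3,2,5,4,1,2,3,5,3,2,1], [0,2,3,2,4,3,2,5,4,3,2,7,5,4], [0,2,3,2,4,3,2,5,4,3,2,1,2,3,5,3,2,1,4,3], [0,2,3,2,4,3,2,5,4,3,2,1,2,3,5,3,2,1,4,5],
  [0,2,3,2,4,3,2,5,4,3,2,1,2,3,5,3,2,1,4,7], [0,2,3,2,4,3,2,5,4,3,5,4,5,4], [0,2,3,2,4,3,2,5,4,3,1,2,3,5,3,2,1,4,3,2], [0,2,3,2,4,3,2,5,4,3,1,2,3,5,3,2,1,4,5,5], [0,2,3,2,4,3,2,1,2,3,5,3,2,1,4,3,2,5,4,3], [0,2,3,2,4,3,2,1,2,3,5,3,2,1,4,3,2,5,4,5], [0,2,3,2,4,3,2,1,2,3,5,3,2,1,4,3,2,5,4,1,2,3,5,3,2,1], [0,2,3,2,4,3,2,1,2,3,5,3,2,1,4,3,2,1,2,3,5,3,2,1,4,3],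
  [0,2,3,2,4,3,2,1,2,3,5,3,2,1,4,3,2,1,2,3,5,3,2,1,4,5], [0,2,3,2,4,3,2,1,2,3,5,3,2,1,4,3,2,1,2,3,5,3,2,1,4,1,2,3,5,3,2,1], [0,2,3,2,4,3,2,1,2,3,5,3,2,1,4,3,2,1,2,3,5,3,2,1,1,2,3,5,3,2,1,4], [0,2,3,2,4,3,2,1,2,3,5,3,2,1,4,3,5,4,3,2], [0,2,3,2,4,3,2,1,2,3,5,3,2,1,4,3,5,4,3,1,2,3,5,3,2,1], [0,2,3,2,4,3,2,1,2,3,5,3,2,1,4,3,5,4,5,5], [0,2,3,2,4,3,2,1,2,3,5,3,2,1,4,3,1,2,3,5,3,2,1,4,1,2,3,5,3,2,1,4], [0,2,3,2,4,3,1,2,3,5,3,2,1,4,3,2,3,5,4,5],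
  [2,3,2,4,3,2,5,4,3,2,3,5,4,3], [2,3,2,4,3,2,5,4,3,2,3,5,4,1,2,3,5,3,2,1], [2,3,2,4,3,2,5,4,3,2,3,1,2,3,5,3,2,1,4,3], [2,3,2,4,3,2,5,4,3,2,3,1,2,3,5,3,2,1,4,1,2,3,5,3,2,1], [2,3,2,4,3,2,5,4,3,2,5,4,3,2], [2,3,2,4,3,2,5,4,3,2,5,4,3,5], [2,3,2,4,3,2,5,4,3,2,5,4,3,7], [2,3,2,4,3,2,5,4,3,2,5,4,3,1,2,3,5,3,2,1],
  [2,3,2,4,3,2,5,4,3,2,5,4,5,4], [2,3,2,4,3,2,5,4,3,2,5,4,5,5], [2,3,2,4,3,2,5,4,3,2,5,4,1,2,3,5,3,2,1,7], [2,3,2,4,3,2,5,4,3,2,5,4,1,2,3,5,3,2,1,1,2,3,5,3,2,1], [2,3,2,4,3,2,5,4,3,2,5,7,5,4], [2,3,2,4,3,2,5,4,3,2,7,5,4,3], [2,3,2,4,3,2,5,4,3,2,1,2,3,5,3,2,1,4,3,2], [2,3,2,4,3,2,5,4,3,2,1,2,3,5,3,2,1,4,3,7],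
  [2,3,2,4,3,2,5,4,3,2,1,2,3,5,3,2,1,4,3,1,2,3,5,3,2,1], [2,3,2,4,3,2,5,4,3,2,1,2,3,5,3,2,1,4,5,5], [2,3,2,4,3,2,5,4,3,2,1,2,3,5,3,2,1,4,7,5], [2,3,2,4,3,2,5,4,3,2,1,2,3,5,3,2,1,1,2,3,5,3,2,1,4,3], [2,3,2,4,3,2,5,4,3,2,1,2,3,5,3,2,1,1,2,3,5,3,2,1,4,1,2,3,5,3,2,1], [2,3,2,4,3,2,5,4,3,1,2,3,5,3,2,1,4,3,2,3], [2,3,2,4,3,2,5,4,3,1,2,3,5,3,2,1,4,3,2,1,2,3,5,3,2,1], [2,3,2,4,3,2,1,2,3,5,3,2,1,4,3,2,3,5,4,3],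
  [2,3,2,4,3,2,1,2,3,5,3,2,1,4,3,2,3,5,4,5], [2,3,2,4,3,2,1,2,3,5,3,2,1,4,3,2,5,4,3,2], [2,3,2,4,3,2,1,2,3,5,3,2,1,4,3,2,5,4,3,5], [2,3,2,4,3,2,1,2,3,5,3,2,1,4,3,2,5,4,3,7], [2,3,2,4,3,2,1,2,3,5,3,2,1,4,3,2,5,4,3,1,2,3,5,3,2,1], [2,3,2,4,3,2,1,2,3,5,3,2,1,4,3,2,5,4,5,4], [2,3,2,4,3,2,1,2,3,5,3,2,1,4,3,2,5,4,5,5], [2,3,2,4,3,2,1,2,3,5,3,2,1,4,3,2,5,4,7,5],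
  [2,3,2,4,3,2,1,2,3,5,3,2,1,4,3,2,5,4,7,1,2,3,5,3,2,1], [2,3,2,4,3,2,1,2,3,5,3,2,1,4,3,2,7,5,4,3], [2,3,2,4,3,2,1,2,3,5,3,2,1,4,3,2,7,5,4,1,2,3,5,3,2,1], [2,3,2,4,3,2,1,2,3,5,3,2,1,4,3,2,7,1,2,3,5,3,2,1,4,3], [2,3,2,4,3,2,1,2,3,5,3,2,1,4,3,2,7,1,2,3,5,3,2,1,4,1,2,3,5,3,2,1], [2,3,2,4,3,2,1,2,3,5,3,2,1,4,3,2,1,2,3,5,3,2,1,4,3,2], [2,3,2,4,3,2,1,2,3,5,3,2,1,4,3,2,1,2,3,5,3,2,1,4,3,5], [2,3,2,4,3,2,1,2,3,5,3,2,1,4,3,2,1,2,3,5,3,2,1,4,3,1,2,3,5,3,2,1],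
  [2,3,2,4,3,2,1,2,3,5,3,2,1,4,3,2,1,2,3,5,3,2,1,4,5,7], [2,3,2,4,3,2,1,2,3,5,3,2,1,4,3,2,1,2,3,5,3,2,1,4,1,2,3,5,3,2,1,4], [2,3,2,4,3,2,1,2,3,5,3,2,1,4,3,2,1,2,3,5,3,2,1,4,1,2,3,5,3,2,1,7], [2,3,2,4,3,2,1,2,3,5,3,2,1,4,3,2,1,2,3,5,3,2,1,1,2,3,5,3,2,1,4,3], [2,3,2,4,3,2,1,2,3,5,3,2,1,4,3,5,4,3,2,3], [2,3,2,4,3,2,1,2,3,5,3,2,1,4,3,5,4,3,2,1,2,3,5,3,2,1], [2,3,2,4,3,1,2,3,5,3,2,1,4,3,2,3,2,5,4,3], [2,3,2,4,3,1,2,3,5,3,2,1,4,3,2,3,2,5,4,5],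
  [0,2,3,2,4,3,2,5,4,3,2,5,4,3,2], [0,2,3,2,4,3,2,5,4,3,2,5,4,3,5], [0,2,3,2,4,3,2,5,4,3,2,5,4,3,7], [0,2,3,2,4,3,2,5,4,3,2,5,4,3,1,2,3,5,3,2,1], [0,2,3,2,4,3,2,5,4,3,2,5,4,5,4], [0,2,3,2,4,3,2,5,4,3,2,7,5,4,3], [0,2,3,2,4,3,2,5,4,3,2,1,2,3,5,3,2,1,4,3,2], [0,2,3,2,4,3,2,5,4,3,2,1,2,3,5,3,2,1,4,3,7],
  [0,2,3,2,4,3,2,5,4,3,2,1,2,3,5,3,2,1,4,3,1,2,3,5,3,2,1], [0,2,3,2,4,3,2,5,4,3,2,1,2,3,5,3,2,1,4,5,5], [0,2,3,2,4,3,2,5,4,3,1,2,3,5,3,2,1,4,3,2,3], [0,2,3,2,4,3,2,1,2,3,5,3,2,1,4,3,2,5,4,3,2], [0,2,3,2,4,3,2,1,2,3,5,3,2,1,4,3,2,5,4,3,5], [0,2,3,2,4,3,2,1,2,3,5,3,2,1,4,3,2,5,4,3,1,2,3,5,3,2,1], [0,2,3,2,4,3,2,1,2,3,5,3,2,1,4,3,2,5,4,5,5], [0,2,3,2,4,3,2,1,2,3,5,3,2,1,4,3,2,1,2,3,5,3,2,1,4,3,2],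
  [0,2,3,2,4,3,2,1,2,3,5,3,2,1,4,3,2,1,2,3,5,3,2,1,4,3,5], [0,2,3,2,4,3,2,1,2,3,5,3,2,1,4,3,2,1,2,3,5,3,2,1,4,3,1,2,3,5,3,2,1], [0,2,3,2,4,3,2,1,2,3,5,3,2,1,4,3,2,1,2,3,5,3,2,1,4,1,2,3,5,3,2,1,4], [0,2,3,2,4,3,2,1,2,3,5,3,2,1,4,3,2,1,2,3,5,3,2,1,1,2,3,5,3,2,1,4,3], [0,2,3,2,4,3,2,1,2,3,5,3,2,1,4,3,5,4,3,2,3], [0,2,3,2,4,3,2,1,2,3,5,3,2,1,4,3,5,4,3,2,1,2,3,5,3,2,1], [2,3,2,4,3,2,5,4,3,2,3,5,4,3,2], [2,3,2,4,3,2,5,4,3,2,3,5,4,3,5],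
  [2,3,2,4,3,2,5,4,3,2,3,1,2,3,5,3,2,1,4,3,2], [2,3,2,4,3,2,5,4,3,2,3,1,2,3,5,3,2,1,4,3,5], [2,3,2,4,3,2,5,4,3,2,5,4,3,2,5], [2,3,2,4,3,2,5,4,3,2,5,4,3,2,7], [2,3,2,4,3,2,5,4,3,2,5,4,3,2,1,2,3,5,3,2,1], [2,3,2,4,3,2,5,4,3,2,5,4,3,5,4], [2,3,2,4,3,2,5,4,3,2,5,4,3,5,5], [2,3,2,4,3,2,5,4,3,2,5,4,3,5,7],
  [2,3,2,4,3,2,5,4,3,2,5,4,3,1,2,3,5,3,2,1,4], [2,3,2,4,3,2,5,4,3,2,5,4,3,1,2,3,5,3,2,1,1,2,3,5,3,2,1], [2,3,2,4,3,2,5,4,3,2,5,4,5,4,3], [2,3,2,4,3,2,5,4,3,2,5,7,5,4,3], [2,3,2,4,3,2,5,4,3,2,7,5,4,3,2], [2,3,2,4,3,2,5,4,3,2,1,2,3,5,3,2,1,4,3,2,3], [2,3,2,4,3,2,5,4,3,2,1,2,3,5,3,2,1,4,3,2,7], [2,3,2,4,3,2,5,4,3,2,1,2,3,5,3,2,1,4,3,2,1,2,3,5,3,2,1],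
  [2,3,2,4,3,2,5,4,3,2,1,2,3,5,3,2,1,4,3,7,1,2,3,5,3,2,1], [2,3,2,4,3,2,5,4,3,2,1,2,3,5,3,2,1,4,3,1,2,3,5,3,2,1,4], [2,3,2,4,3,2,5,4,3,2,1,2,3,5,3,2,1,4,3,1,2,3,5,3,2,1,1,2,3,5,3,2,1], [2,3,2,4,3,2,5,4,3,2,1,2,3,5,3,2,1,1,2,3,5,3,2,1,4,3,2], [2,3,2,4,3,2,5,4,3,2,1,2,3,5,3,2,1,1,2,3,5,3,2,1,4,3,5], [2,3,2,4,3,2,5,4,3,1,2,3,5,3,2,1,4,3,2,3,2], [2,3,2,4,3,2,5,4,3,1,2,3,5,3,2,1,4,3,2,3,5], [2,3,2,4,3,2,1,2,3,5,3,2,1,4,3,2,3,5,4,3,2],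
  [2,3,2,4,3,2,1,2,3,5,3,2,1,4,3,2,3,5,4,3,1,2,3,5,3,2,1], [2,3,2,4,3,2,1,2,3,5,3,2,1,4,3,2,5,4,3,2,3], [2,3,2,4,3,2,1,2,3,5,3,2,1,4,3,2,5,4,3,2,5], [2,3,2,4,3,2,1,2,3,5,3,2,1,4,3,2,5,4,3,2,7], [2,3,2,4,3,2,1,2,3,5,3,2,1,4,3,2,5,4,3,2,1,2,3,5,3,2,1], [2,3,2,4,3,2,1,2,3,5,3,2,1,4,3,2,5,4,3,5,4], [2,3,2,4,3,2,1,2,3,5,3,2,1,4,3,2,5,4,3,5,5], [2,3,2,4,3,2,1,2,3,5,3,2,1,4,3,2,5,4,3,5,7],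
  [2,3,2,4,3,2,1,2,3,5,3,2,1,4,3,2,5,4,3,7,5], [2,3,2,4,3,2,1,2,3,5,3,2,1,4,3,2,5,4,3,1,2,3,5,3,2,1,4], [2,3,2,4,3,2,1,2,3,5,3,2,1,4,3,2,5,4,5,4,3], [2,3,2,4,3,2,1,2,3,5,3,2,1,4,3,2,7,5,4,3,2], [2,3,2,4,3,2,1,2,3,5,3,2,1,4,3,2,7,5,4,3,5], [2,3,2,4,3,2,1,2,3,5,3,2,1,4,3,2,7,1,2,3,5,3,2,1,4,3,2], [2,3,2,4,3,2,1,2,3,5,3,2,1,4,3,2,7,1,2,3,5,3,2,1,4,3,5], [2,3,2,4,3,2,1,2,3,5,3,2,1,4,3,2,1,2,3,5,3,2,1,4,3,2,5],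
  [2,3,2,4,3,2,1,2,3,5,3,2,1,4,3,2,1,2,3,5,3,2,1,4,3,2,1,2,3,5,3,2,1], [2,3,2,4,3,2,1,2,3,5,3,2,1,4,3,2,1,2,3,5,3,2,1,4,3,5,4], [2,3,2,4,3,2,1,2,3,5,3,2,1,4,3,2,1,2,3,5,3,2,1,4,3,5,7], [2,3,2,4,3,2,1,2,3,5,3,2,1,4,3,2,1,2,3,5,3,2,1,4,3,1,2,3,5,3,2,1,7], [2,3,2,4,3,2,1,2,3,5,3,2,1,4,3,2,1,2,3,5,3,2,1,4,1,2,3,5,3,2,1,4,3], [2,3,2,4,3,2,1,2,3,5,3,2,1,4,3,2,1,2,3,5,3,2,1,1,2,3,5,3,2,1,4,3,2], [2,3,2,4,3,2,1,2,3,5,3,2,1,4,3,5,4,3,2,3,2], [2,3,2,4,3,2,1,2,3,5,3,2,1,4,3,5,4,3,2,3,5],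
  [2,3,2,4,3,1,2,3,5,3,2,1,4,3,2,3,2,5,4,3,2], [2,3,2,4,3,1,2,3,5,3,2,1,4,3,2,3,2,5,4,3,1,2,3,5,3,2,1], [0,2,3,2,4,3,2,5,4,3,2,5,4,3,2,5], [0,2,3,2,4,3,2,5,4,3,2,5,4,3,2,7], [0,2,3,2,4,3,2,5,4,3,2,5,4,3,2,1,2,3,5,3,2,1], [0,2,3,2,4,3,2,5,4,3,2,5,4,3,5,4], [0,2,3,2,4,3,2,5,4,3,2,5,4,3,1,2,3,5,3,2,1,4], [0,2,3,2,4,3,2,5,4,3,2,5,4,5,4,3],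
  [0,2,3,2,4,3,2,5,4,3,2,7,5,4,3,2], [0,2,3,2,4,3,2,5,4,3,2,1,2,3,5,3,2,1,4,3,2,7], [0,2,3,2,4,3,2,5,4,3,2,1,2,3,5,3,2,1,4,3,1,2,3,5,3,2,1,1,2,3,5,3,2,1], [0,2,3,2,4,3,2,1,2,3,5,3,2,1,4,3,2,5,4,3,5,7], [0,2,3,2,4,3,2,1,2,3,5,3,2,1,4,3,2,1,2,3,5,3,2,1,4,3,2,1,2,3,5,3,2,1], [0,2,3,2,4,3,2,1,2,3,5,3,2,1,4,3,2,1,2,3,5,3,2,1,4,1,2,3,5,3,2,1,4,3], [0,2,3,2,4,3,2,1,2,3,5,3,2,1,4,3,2,1,2,3,5,3,2,1,1,2,3,5,3,2,1,4,3,2], [0,2,3,2,4,3,2,1,2,3,5,3,2,1,4,3,5,4,3,2,3,5],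
  [2,3,2,4,3,2,5,4,3,2,3,5,4,3,2,5], [2,3,2,4,3,2,5,4,3,2,3,5,4,3,5,4], [2,3,2,4,3,2,5,4,3,2,3,1,2,3,5,3,2,1,4,3,2,3], [2,3,2,4,3,2,5,4,3,2,5,4,3,2,5,7], [2,3,2,4,3,2,5,4,3,2,5,4,3,2,1,2,3,5,3,2,1,1,2,3,5,3,2,1], [2,3,2,4,3,2,5,4,3,2,5,4,3,5,4,7], [2,3,2,4,3,2,5,4,3,2,5,4,3,1,2,3,5,3,2,1,4,3], [2,3,2,4,3,2,5,4,3,2,5,7,5,4,3,2],
  [2,3,2,4,3,2,5,4,3,2,1,2,3,5,3,2,1,4,3,2,7,1,2,3,5,3,2,1], [2,3,2,4,3,2,5,4,3,2,1,2,3,5,3,2,1,4,3,7,1,2,3,5,3,2,1,4], [2,3,2,4,3,2,5,4,3,2,1,2,3,5,3,2,1,1,2,3,5,3,2,1,4,3,2,5], [2,3,2,4,3,2,5,4,3,2,1,2,3,5,3,2,1,1,2,3,5,3,2,1,4,3,5,4], [2,3,2,4,3,2,5,4,3,1,2,3,5,3,2,1,4,3,2,3,2,5], [2,3,2,4,3,2,5,4,3,1,2,3,5,3,2,1,4,3,2,3,5,4], [2,3,2,4,3,2,1,2,3,5,3,2,1,4,3,2,3,5,4,3,2,1,2,3,5,3,2,1],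 [2,3,2,4,3,2,1,2,3,5,3,2,1,4,3,2,5,4,3,2,5,7],
  [2,3,2,4,3,2,1,2,3,5,3,2,1,4,3,2,5,4,3,5,4,7], [2,3,2,4,3,2,1,2,3,5,3,2,1,4,3,2,5,4,3,1,2,3,5,3,2,1,4,3], [2,3,2,4,3,2,1,2,3,5,3,2,1,4,3,2,5,4,5,4,3,2], [2,3,2,4,3,2,1,2,3,5,3,2,1,4,3,2,7,5,4,3,2,5], [2,3,2,4,3,2,1,2,3,5,3,2,1,4,3,2,7,5,4,3,5,4], [2,3,2,4,3,2,1,2,3,5,3,2,1,4,3,2,1,2,3,5,3,2,1,4,3,2,1,2,3,5,3,2,1,7], [2,3,2,4,3,1,2,3,5,3,2,1,4,3,2,3,2,5,4,3,2,1,2,3,5,3,2,1], [0,2,3,2,4,3,2,5,4,3,2,5,4,3,1,2,3,5,3,2,1,4,3]]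

end H87.ThOut
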