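import Cfsg.Agent.H87.ThOut.Data

/-!
Positive words for the three identities between elements outside the point stabiliser.
-/

set_option autoImplicit false

namespace H87.ThOut

/-- a power of a word -/
def rep' (n : ℕ) (w : List ℕ) : List ℕ := (List.replicate n w).flatten

/-- the second element with letters below six only -/
def pPos : List ℕ := [2, 1, 0, 3, 2, 3, 5, 3, 3, 5, 3, 3, 3, 5, 3, 3, 5, 3]

/-- the word of `s ^ i * p ^ j` -/
def elPos (v : ℕ × ℕ) : List ℕ := rep' v.1 [5] ++ rep' v.2 pPos

/-- left and right side of an identity `val x · g = g · val y` -/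
def sideL (x : ℕ × ℕ) (g : List ℕ) : List ℕ := elPos x ++ g

/-- the right side -/
def sideR (g : List ℕ) (y : ℕ × ℕ) : List ℕ := g ++ elPos y

end H87.ThOut
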