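import Cfsg.Agent.H87.ThOut.IdFast
import Cfsg.Agent.H87.ThOut.IdTop
import Cfsg.Agent.H87.ThOut.IdWords

/-!
Kernel checks on the first rows of the matrices, by rows.
-/

set_option autoImplicit false
set_option maxRecDepth 100000
set_option maxHeartbeats 0
set_option Elab.async false

namespace H87.ThOut

open H62.Th (fz mulC)

theorem gamma_fast : (fz topC fun o => fz (run52 gammaPos o) fun a =>
    Nat.beq a gammaTop && !Nat.beq (mulC a o) a) = true := by
  decide +kernel

theorem w_fast : (fz topC fun o => fz (run52 wPos o) fun a =>
    Nat.beq a wTop && !Nat.beq (mulC a o) a) = true := by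
  decide +kernel

end H87.ThOut
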