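import Cfsg.Agent.H87.ThOut.IdKeep
import Cfsg.Agent.H87.ThOut.IdFastG
import Cfsg.Agent.H87.ThOut.IdFastS
import Cfsg.Agent.H87.ThOut.IdFastW

/-!
All kernel checks on the first rows of the matrices.
-/

set_option autoImplicit false
set_option maxRecDepth 100000

namespace H87.ThOut

open H62.Th (code runC fz fz_eq mulC)

attribute [local irreducible] H62.Th.code H62.Th.matOf topC topM gammaTop wTop

theorem runC_append (c : ℕ → ℕ) : ∀ (u v : List ℕ) (x : ℕ),
    runC c (u ++ v) x = runC c v (runC c u x)
  | [], _, _ => rfl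
  | g :: u, v, x => by
    show fz (mulC x (c g)) (runC c (u ++ v)) = runC c v (fz (mulC x (c g)) (runC c u))
    rw [fz_eq, fz_eq]
    exact runC_append c u v _

theorem keepTop_false {u : List ℕ} {l : ℕ} (hu : ∀ g ∈ u, g < 8)
    (h : (fz topC fun o => fz (run52 u o) fun a => Nat.beq a l && !Nat.beq (mulC a o) a) = true) :
    keepTop code u = false ∧ runC code u topC = l := by
  simp only [fz_eq, Bool.and_eq_true, Bool.not_eq_true', (run52_eq u hu topC_rep).1] at h
  refine ⟨?_, Nat.eq_of_beq_eq_true h.1⟩
  simp only [keepTop, fz_eq]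
  exact h.2

theorem sameTop_true {x y : ℕ × ℕ} {g : List ℕ} {l : ℕ} (hg : runC code g topC = l)
    (hx : ∀ a ∈ sideL x g, a < 8) (hy : ∀ a ∈ elPos y, a < 8) (hgl : ∀ a ∈ g, a < 8)
    (h : (fz topC fun o => fz (run52 (sideL x g) o) fun a =>
      fz (run52 (elPos y) l) fun b => Nat.beq a b) = true) :
    sameTop code (sideL x g) (sideR g y) = true := by
  have hl := hg ▸ (run52_eq g hgl topC_rep).2
  simp only [fz_eq, (run52_eq _ hx topC_rep).1, (run52_eq _ hy hl).1] at h
  simp only [sameTop, fz_eq]
  rw [sideR, runC_append, hg]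
  exact h

theorem keep_gamma : keepTop code gammaPos = false := (keepTop_false (by decide) gamma_fast).1

theorem keep_w : keepTop code wPos = false := (keepTop_false (by decide) w_fast).1

theorem gamma_s_chk : sameTop code (sideL (1, 0) gammaPos) (sideR gammaPos gammaS) = true :=
  sameTop_true (keepTop_false (by decide) gamma_fast).2 (by decide) (by decide) (by decide)
    gamma_s_fast

theorem gamma_p_chk : sameTop code (sideL (0, 1) gammaPos) (sideR gammaPos gammaP) = true :=
  sameTop_true (keepTop_false (by decide) gamma_fast).2 (by decide) (by decide) (by decide)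
    gamma_p_fast

theorem w_chk : sameTop code (sideL wSrc wPos) (sideR wPos wDst) = true :=
  sameTop_true (keepTop_false (by decide) w_fast).2 (by decide) (by decide) (by decide) w_img_fast

end H87.ThOut
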