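import Mathlib
import Cfsg.Agent.H62.Th.Word

/-!
The first 52 rows of the identity matrix, as a code, and products starting from it.
-/

set_option autoImplicit false
set_option maxRecDepth 100000

namespace H87.ThOut

open H62.Th (Mat Rep asm runC fz fz_eq mulC runC_rep rep_unique pk pk_unit pk_congr asm_eq)

/-- the rows -/
def topC : ℕ := asm ((List.range 248).map fun i => if i < 52 then 1 <<< (10 * i) else 0)

/-- the projection to the first 52 coordinates -/
def topM : Mat := Matrix.of fun i j => if i = j ∧ i.val < 52 then 1 else 0

theorem topC_rep : Rep topC topM := by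
  refine ⟨fun k => if k % 248 = k / 248 ∧ k / 248 < 52 then 1 else 0,
    fun k => by dsimp only; split <;> norm_num, ?_, fun i j => ?_⟩
  · have e : (List.range 248).map (fun i => if i < 52 then 1 <<< (10 * i) else 0) =
        (List.range 248).map fun i => pk 248 fun k => if k = i ∧ i < 52 then 1 else 0 := by
      refine List.map_congr_left fun i hi => ?_
      by_cases h : i < 52
      · rw [if_pos h, ← pk_unit 248 i (List.mem_range.1 hi)]
        exact pk_congr _ fun k _ => by simp [h]
      · rw [if_neg h, pk_congr 248 (g := fun _ => 0) fun k _ => by simp [h], H62.Th.pk_zero]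
    rw [topC, e, asm_eq]
  · dsimp only
    rw [show (248 * i.val + j.val) / 248 = i.val by omega,
      show (248 * i.val + j.val) % 248 = j.val by omega]
    simp only [topM, Matrix.of_apply]
    by_cases h : i = j
    · subst h; by_cases h2 : i.val < 52 <;> simp [h2]
    · rw [if_neg fun e => h (Fin.ext e.1.symm), if_neg fun e => h e.1, Nat.cast_zero]

theorem topM_idem : topM * topM = topM := by
  ext i j
  rw [Matrix.mul_apply, Finset.sum_eq_single i]
  · simp only [topM, Matrix.of_apply]
    by_cases h2 : i.val < 52 <;> simp [h2]
  · intro b _ hb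
    simp [topM, Ne.symm hb]
  · simp

/-- the first rows of two products agree -/
noncomputable def sameTop (code : ℕ → ℕ) (u v : List ℕ) : Bool :=
  fz topC fun o => fz (runC code u o) fun a => fz (runC code v o) fun b => Nat.beq a b

/-- the first rows of a product leave the first coordinates -/
noncomputable def keepTop (code : ℕ → ℕ) (u : List ℕ) : Bool :=
  fz topC fun o => fz (runC code u o) fun a => fz (mulC a o) fun b => Nat.beq b a

theorem sameTop_spec {code : ℕ → ℕ} {m : ℕ → Mat} {u v : List ℕ} (h : sameTop code u v = true)
    (hu : ∀ g ∈ u, Rep (code g) (m g)) (hv : ∀ g ∈ v, Rep (code g) (m g)) :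
    topM * (u.map m).prod = topM * (v.map m).prod := by
  simp only [sameTop, fz_eq, Nat.beq_eq] at h
  have a := runC_rep u hu topC_rep
  have b := runC_rep v hv topC_rep
  rw [h] at a
  exact rep_unique a b

theorem keepTop_iff {code : ℕ → ℕ} {m : ℕ → Mat} {u : List ℕ}
    (hu : ∀ g ∈ u, Rep (code g) (m g)) :
    keepTop code u = true ↔ topM * (u.map m).prod * topM = topM * (u.map m).prod := by
  simp only [keepTop, fz_eq, Nat.beq_eq]
  have a := runC_rep u hu topC_rep
  have b := H62.Th.mul_rep a topC_rep
  constructor
  · intro h
    rw [h] at b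
    exact rep_unique b a
  · intro h
    rw [h] at b
    exact H62.Th.rep_code_unique b a

end H87.ThOut
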