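import Cfsg.Agent.H87.ThOut.IdChk
import Cfsg.Agent.H93.Th.Rho
import Cfsg.Agent.H93.Th.Twist
import Cfsg.Agent.H96.ThSimple.Glue

/-!
Equalities and non-membership in the presented Thompson group from the first rows of matrices.
-/

set_option autoImplicit false
set_option maxRecDepth 100000

namespace H87.ThOut

open H62.Th (Mat Rep code)
open H96.ThSimple (GT gen nTh)

attribute [local irreducible] H62.Th.code H62.Th.matOf H93.Th.rho topM topC

/-- the matrix of a letter -/
noncomputable def mtx (g : ℕ) : Mat := H62.Th.matOf (code g)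

theorem rep_mtx {g : ℕ} (hg : g < 8) : Rep (code g) (mtx g) := H93.Th.gen_rep hg

/-- letters a b c d e s t u -/
def genOf : ℕ → Cfsg.Spor.Th.Gen
  | 0 => .a | 1 => .b | 2 => .c | 3 => .d | 4 => .e | 5 => .s | 6 => .t | _ => .u

/-- the value of a positive word -/
noncomputable def val (w : List ℕ) : GT := (w.map fun l => gen (genOf l)).prod

theorem idx_genOf {l : ℕ} (h : l < 8) : H62.Th.idx (genOf l) = l := by
  interval_cases l <;> rfl

/-- the matrix of an element -/
noncomputable def mv (g : GT) : Mat := ((H93.Th.rho g : Units Mat) : Mat)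

theorem mv_mul (g h : GT) : mv (g * h) = mv g * mv h := by simp [mv]

theorem mv_one : mv 1 = 1 := by simp [mv]

theorem mv_val : ∀ {w : List ℕ}, (∀ l ∈ w, l < 8) → mv (val w) = (w.map mtx).prod
  | [], _ => by simp [val, mv_one]
  | l :: w, h => by
    have hl := h l List.mem_cons_self
    rw [show val (l :: w) = gen (genOf l) * val w by simp [val], mv_mul,
      mv_val fun x hx => h x (List.mem_cons_of_mem _ hx), List.map_cons, List.prod_cons]
    congr 1
    show ((H93.Th.rho (PresentedGroup.of (genOf l))) : Mat) = _
    rw [H93.Th.rho_of, idx_genOf hl]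
    rfl

theorem top_of_check {u v : List ℕ} (h : sameTop code u v = true) (hu : ∀ l ∈ u, l < 8)
    (hv : ∀ l ∈ v, l < 8) : topM * mv (val u) = topM * mv (val v) := by
  rw [mv_val hu, mv_val hv]
  exact sameTop_spec h (fun g hg => rep_mtx (hu g hg)) fun g hg => rep_mtx (hv g hg)

theorem keep_iff {u : List ℕ} (hu : ∀ l ∈ u, l < 8) :
    keepTop code u = true ↔ topM * mv (val u) * topM = topM * mv (val u) := by
  rw [mv_val hu]
  exact keepTop_iff fun g hg => rep_mtx (hu g hg)

/-- the elements which keep the first coordinates -/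
noncomputable def keeper [Finite GT] : Subgroup GT :=
  let S : Submonoid GT :=
    { carrier := {g | topM * mv g * topM = topM * mv g}
      one_mem' := by simp [mv_one, topM_idem]
      mul_mem' := fun {g h} hg hh => by
        show topM * mv (g * h) * topM = topM * mv (g * h)
        rw [mv_mul, ← mul_assoc, ← (hg : topM * mv g * topM = _)]
        simp only [mul_assoc]
        rw [← mul_assoc topM (mv h) topM, (hh : topM * mv h * topM = _)] }
  { S with
    inv_mem' := fun {g} hg => by
      have e : g⁻¹ = g ^ (orderOf g - 1) := by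
        refine inv_eq_of_mul_eq_one_right ?_
        rw [← pow_succ', Nat.sub_add_cancel (orderOf_pos g), pow_orderOf_eq_one]
      rw [e]
      exact S.pow_mem hg _ }

theorem mem_keeper [Finite GT] {g : GT} :
    g ∈ keeper ↔ topM * mv g * topM = topM * mv g := Iff.rfl

variable [Finite GT] (hmax : ∀ H : Subgroup GT, nTh ≤ H → H = nTh ∨ H = ⊤)

theorem nTh_le_keeper : nTh ≤ keeper := by
  rw [H96.ThSimple.nTh_eq, Subgroup.closure_le]
  have key : ∀ l, l < 8 → keepTop code [l] = true → gen (genOf l) ∈ keeper := by
    intro l hl h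
    have h' := (keep_iff (u := [l]) (by simp [hl])).mp h
    rw [mem_keeper]
    simpa [val] using h'
  rintro x (rfl | rfl | rfl | rfl | rfl | rfl | rfl)
  exacts [key 0 (by norm_num) keep0, key 1 (by norm_num) keep1, key 2 (by norm_num) keep2,
    key 3 (by norm_num) keep3, key 4 (by norm_num) keep4, key 5 (by norm_num) keep5,
    key 6 (by norm_num) keep6]

include hmax

theorem keeper_eq : keeper = nTh := by
  refine (hmax _ nTh_le_keeper).resolve_right fun h => ?_
  have hu : gen (genOf 7) ∈ (keeper : Subgroup GT) := h ▸ Subgroup.mem_top _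
  rw [mem_keeper] at hu
  have h' : keepTop code [7] = true := (keep_iff (u := [7]) (by simp)).mpr (by simpa [val] using hu)
  rw [keep_u] at h'
  exact Bool.noConfusion h'

theorem not_mem_of_keep {u : List ℕ} (hu : ∀ l ∈ u, l < 8) (h : keepTop code u = false) :
    val u ∉ H22Th.iota.range := by
  rw [H96.ThSimple.model_range, ← keeper_eq hmax]
  intro hm
  rw [(keep_iff hu).mpr hm] at h
  exact Bool.noConfusion h

/-- equal first rows give equal elements -/
theorem eq_of_top {g h : GT} (e : topM * mv g = topM * mv h) : g = h := by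
  set d := g * h⁻¹ with hd
  have hdE : topM * mv d = topM := by
    rw [hd, mv_mul, ← mul_assoc, e, mul_assoc, ← mv_mul, mul_inv_cancel, mv_one, mul_one]
  have hmem : d ∈ keeper := by
    show topM * mv d * topM = topM * mv d
    rw [hdE, topM_idem]
  rw [keeper_eq hmax, ← H96.ThSimple.model_range] at hmem
  obtain ⟨n, hn⟩ := hmem
  let K0 : Submonoid H22Th.P :=
    { carrier := {n | topM * mv (H22Th.iota n) = topM}
      one_mem' := by simp [mv_one]
      mul_mem' := fun {a b} ha hb => by
        show topM * mv (H22Th.iota (a * b)) = topM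
        rw [map_mul, mv_mul, ← mul_assoc, (ha : topM * mv (H22Th.iota a) = topM),
          (hb : topM * mv (H22Th.iota b) = topM)] }
  let K : Subgroup H22Th.P :=
    { K0 with
      inv_mem' := fun {a} ha => by
        show topM * mv (H22Th.iota a⁻¹) = topM
        conv_lhs => rw [← (ha : topM * mv (H22Th.iota a) = topM)]
        rw [mul_assoc, ← mv_mul, ← map_mul, mul_inv_cancel, map_one, mv_one, mul_one] }
  haveI : K.Normal := ⟨fun a ha b => by
    show topM * mv (H22Th.iota (b * a * b⁻¹)) = topM
    have hb : topM * mv (H22Th.iota b) * topM = topM * mv (H22Th.iota b) :=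
      nTh_le_keeper (H96.ThSimple.model_range ▸ ⟨b, rfl⟩ : H22Th.iota b ∈ nTh)
    rw [map_mul, map_mul, mv_mul, mv_mul, ← mul_assoc, ← mul_assoc, ← hb,
      mul_assoc (topM * mv (H22Th.iota b)) topM, (ha : topM * mv (H22Th.iota a) = topM), hb,
      mul_assoc, ← mv_mul, ← map_mul, mul_inv_cancel, map_one, mv_one, mul_one]⟩
  have hinj := H93.Th.injective_of_a (QuotientGroup.mk' K) (fun h1 => by
    have h2 : H22Th.x 0 ∈ K := (QuotientGroup.eq_one_iff _).mp h1
    have h3 : topM * mv (H22Th.iota (H22Th.x 0)) = topM := h2
    have h4 : sameTop code [0] [] = true := by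
      simp only [sameTop, H62.Th.fz_eq, Nat.beq_eq]
      have a := H62.Th.runC_rep [0] (code := code) (m := mtx) (fun g hg => rep_mtx (by simp at hg; omega)) topC_rep
      have b := H62.Th.runC_rep ([] : List ℕ) (code := code) (m := mtx) (fun g hg => by simp at hg) topC_rep
      refine H62.Th.rep_code_unique (M := topM) ?_ (by simpa using b)
      have e0 : mv (H22Th.iota (H22Th.x 0)) = ([0].map mtx).prod := by
        rw [← mv_val (w := [0]) (by simp)]
        simp [val, H22Th.iota_x, H22Th.thImg, genOf]
        rfl
      rw [← e0, h3] at a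
      exact a
    rw [a_moves] at h4
    exact Bool.noConfusion h4)
  have hnK : n ∈ K := by
    show topM * mv (H22Th.iota n) = topM
    rw [hn, hdE]
  have : n = 1 := hinj (by rw [map_one]; exact (QuotientGroup.eq_one_iff _).mpr hnK)
  rw [this, map_one, hd] at hn
  exact mul_inv_eq_one.mp hn.symm

theorem val_eq_of_check {u v : List ℕ} (h : sameTop code u v = true) (hu : ∀ l ∈ u, l < 8)
    (hv : ∀ l ∈ v, l < 8) : val u = val v :=
  eq_of_top hmax (top_of_check h hu hv)

end H87.ThOut
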