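import Cfsg.Agent.H87.ThOut.IdCode
import Cfsg.Agent.H62.Th.Rows
import Cfsg.Agent.H62.Th.GenOK

/-!
Products of the first 52 rows with a matrix given by its list of rows.
-/

set_option autoImplicit false
set_option maxRecDepth 100000

namespace H87.ThOut

open H62.Th (Mat Rep RepL fz fz_eq accL red colMask code rows matOf mulS_gen mulL_rep runC runC_rep)

/-- the mask of a first column of 52 rows -/
def colMask52 : ℕ := 1023 * ((2 ^ 128960 - 1) / (2 ^ 2480 - 1))

theorem colMask52_eq : colMask % 2 ^ 128960 = colMask52 := by decide +kernel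

/-- the product of a block of 52 rows with a list of rows -/
noncomputable def mul52 (A : ℕ) (r : List ℕ) : ℕ :=
  cond (Nat.blt A (2 ^ 128960))
    (fz colMask52 fun cm => fz (accL cm r A 0) fun x => red x) (H62.Th.mulL A r)

theorem mul52_eq (A : ℕ) (r : List ℕ) : mul52 A r = H62.Th.mulL A r :=
  mulS_gen colMask52_eq A r

/-- multiply by the letters of a word from the right -/
noncomputable def run52 (w : List ℕ) : ℕ → ℕ :=
  List.rec (motive := fun _ => ℕ → ℕ) (fun c => c) (fun g _ ih c => fz (mul52 c (rows g)) ih) w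

theorem okRows52 : ∀ g < 8, H62.Th.okRows (rows g) = true := by decide +kernel

attribute [local irreducible] H62.Th.code H62.Th.matOf

theorem repL_code {g : ℕ} (hg : g < 8) : RepL (rows g) (matOf (code g)) ∧ Rep (code g) (matOf (code g)) := by
  have hall : ∀ g < 8, H62.Th.checkGen g = true := by
    intro g hg
    rcases g with _ | _ | _ | _ | _ | _ | _ | _ | g
    · exact H62.Th.genOK0
    · exact H62.Th.genOK1
    · exact H62.Th.genOK2
    · exact H62.Th.genOK3
    · exact H62.Th.genOK4
    · exact H62.Th.genOK5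
    · exact H62.Th.genOK6
    · exact H62.Th.genOK7
    · omega
  have h := hall g hg
  simp only [H62.Th.checkGen, fz_eq, Bool.and_eq_true] at h
  refine ⟨?_, H62.Th.rep_matOf h.1⟩
  rw [← H62.Th.asm_rows]
  exact H62.Th.repL_of_check (okRows52 g hg) (by rw [H62.Th.asm_rows]; exact h.1)

theorem run52_rep : ∀ (w : List ℕ) {c : ℕ} {M : Mat}, (∀ g ∈ w, g < 8) → Rep c M →
    Rep (run52 w c) (M * (w.map fun g => matOf (code g)).prod)
  | [], c, M, _, hM => by simpa [run52] using hM
  | g :: w, c, M, hw, hM => by
    show Rep (fz (mul52 c (rows g)) (run52 w)) _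
    rw [fz_eq, mul52_eq, List.map_cons, List.prod_cons, ← mul_assoc]
    exact run52_rep w (fun a ha => hw a (List.mem_cons_of_mem _ ha))
      (mulL_rep hM (repL_code (hw g List.mem_cons_self)).1)

theorem run52_eq (w : List ℕ) {c : ℕ} {M : Mat} (hw : ∀ g ∈ w, g < 8) (hc : Rep c M) :
    run52 w c = runC code w c ∧ Rep (runC code w c) (M * (w.map fun g => matOf (code g)).prod) := by
  have h := runC_rep (code := code) (m := fun g => matOf (code g)) w
    (fun g hg => (repL_code (hw g hg)).2) hc
  exact ⟨H62.Th.rep_code_unique (run52_rep w hw hc) h, h⟩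

end H87.ThOut
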