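import Cfsg.Agent.H87.ThOut.IdCode
import Cfsg.Agent.H87.ThOut.IdWords

/-!
Kernel checks on the first rows of the matrices.
-/

set_option autoImplicit false
set_option maxRecDepth 100000
set_option maxHeartbeats 0
set_option Elab.async false

namespace H87.ThOut

open H62.Th (code)

theorem keep0 : keepTop code [0] = true := by decide +kernel
theorem keep1 : keepTop code [1] = true := by decide +kernel
theorem keep2 : keepTop code [2] = true := by decide +kernel
theorem keep3 : keepTop code [3] = true := by decide +kernel
theorem keep4 : keepTop code [4] = true := by decide +kernel
theorem keep5 : keepTop code [5] = true := by decide +kernel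
theorem keep6 : keepTop code [6] = true := by decide +kernel
theorem keep_u : keepTop code [7] = false := by decide +kernel
theorem a_moves : sameTop code [0] [] = false := by decide +kernel

end H87.ThOut
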