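import Cfsg.Agent.H87.ThOut.Core

/-!
Up to an inner automorphism, every automorphism fixes the model pointwise.
-/

set_option autoImplicit false
set_option maxRecDepth 100000

namespace H87.ThOut

open H22Th (P)

variable {G : Type*} [Group G] {ι : P →* G}

namespace Ctx

theorem cj_mul_apply (g : G) (α : MulAut G) (x : G) : (cj g * α) x = g * α x * g⁻¹ := rfl

theorem cj_inv (g : G) : cj g⁻¹ = (cj g)⁻¹ := map_inv MulAut.conj g

theorem p_pow_comm_s (m : ℕ) : Commute (pEl ^ m) sEl := sp_comm.symm.pow_left m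

variable (C : Ctx ι)

include C

theorem sylow_adjust (α : MulAut G) : ∃ g : G, Maps ι (cj g * α) := by
  have := C.fin
  have : Fact (Nat.Prime 7) := ⟨by norm_num⟩
  have hc : ∀ f : MulAut G, Nat.card ((Qsub.map ι).map f.toMonoidHom) = 7 ^ 2 := fun f => by
    rw [Subgroup.card_map_of_injective f.injective, Subgroup.card_map_of_injective C.D.inj,
      card_Qsub]
    norm_num
  have hS : ∀ f : MulAut G, ∃ S : Sylow 7 G, (Qsub.map ι).map f.toMonoidHom = (S : Subgroup G) := by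
    intro f
    obtain ⟨S, hS⟩ := (IsPGroup.of_card (hc f)).exists_le_sylow
    refine ⟨S, Subgroup.eq_of_le_of_card_ge hS ?_⟩
    obtain ⟨n, hn⟩ := IsPGroup.iff_card.mp S.2
    rw [hn, hc f]
    refine Nat.pow_le_pow_right (by norm_num) ?_
    by_contra hlt
    have h3 : 7 ^ 3 ∣ Nat.card G :=
      (pow_dvd_pow 7 (not_le.mp hlt)).trans (hn ▸ Subgroup.card_subgroup_dvd_card _)
    rw [C.card_G] at h3
    norm_num at h3
  obtain ⟨S, hS1⟩ := hS 1
  obtain ⟨T, hT⟩ := hS α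
  obtain ⟨g, hg⟩ := MulAction.exists_smul_eq G T S
  refine ⟨g, fun v => ?_⟩
  have hx : α (ι (el v)) ∈ (T : Subgroup G) :=
    hT ▸ Subgroup.mem_map_of_mem _ (Subgroup.mem_map_of_mem _ (el_mem v))
  have hy : cj g (α (ι (el v))) ∈ (S : Subgroup G) := by
    rw [← hg, Sylow.coe_subgroup_smul]
    exact Subgroup.smul_mem_pointwise_smul _ (MulAut.conj g) _ hx
  rw [← hS1] at hy
  obtain ⟨z, hz, hzy⟩ := hy
  obtain ⟨q, ⟨w, rfl⟩, rfl⟩ := hz
  exact ⟨w, hzy.symm⟩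

variable (hγ : Maps ι (cj C.S.γ⁻¹))

include hγ

theorem s_adjust {α : MulAut G} (hα : Maps ι α) :
    ∃ g : G, Maps ι (cj g * α) ∧ (cj g * α) (ι sEl) = ι sEl := by
  have key : ∀ β : MulAut G, Maps ι β → ∀ t, isA t = true → β (ι sEl) = ι (el t) →
      ∃ g : G, Maps ι (cj g * β) ∧ (cj g * β) (ι sEl) = ι sEl := by
    intro β hβ t ht h
    obtain ⟨n, r, hn, hr⟩ := nv_exists ht
    refine ⟨(ι n)⁻¹, ?_, ?_⟩
    · rw [cj_inv]
      exact (C.maps_inv (maps_conj_nv hn hr)).mul hβ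
    · rw [cj_mul_apply, h, ← hn, map_mul, map_mul, map_inv]
      group
  obtain ⟨t, ht⟩ := hα (1, 0)
  rw [el_s] at ht
  cases hA : isA t with
  | true => exact key α hα t hA ht
  | false =>
    obtain ⟨z, hz⟩ := hγ t
    rw [cj, MulAut.conj_apply, inv_inv] at hz
    have hne : el t ≠ 1 := fun e => by
      rw [e, map_one, MulEquiv.map_eq_one_iff] at ht
      have e1 := el_eq_one ((el_s).trans (C.D.inj (ht.trans (map_one ι).symm)))
      simp at e1
    have hzA : isA z = true := by rw [C.gamma_type hne hz, hA]; rfl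
    obtain ⟨g, hg1, hg2⟩ := key (cj C.S.γ⁻¹ * α) (hγ.mul hα) z hzA (by
      rw [cj_mul_apply, ht, inv_inv, hz])
    refine ⟨g * C.S.γ⁻¹, ?_⟩
    rw [show cj (g * C.S.γ⁻¹) = cj g * cj C.S.γ⁻¹ from map_mul MulAut.conj _ _, mul_assoc]
    exact ⟨hg1, hg2⟩

theorem p_adjust {α : MulAut G} (hα : Maps ι α) (hs : α (ι sEl) = ι sEl) :
    ∃ g : G, (cj g * α) (ι sEl) = ι sEl ∧ (cj g * α) (ι pEl) = ι pEl := by
  obtain ⟨⟨b, d⟩, hp⟩ := hα (0, 1)
  rw [el_p] at hp
  have hp' : α (ι pEl) = ι (el (b % 7, d % 7)) := by rw [hp, el_mod]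
  have hs' : α (ι sEl) = ι (el (1, 0)) := by rw [el_s, hs]
  have hlin := C.linear hs' hp'
  have ht := C.keeps_type hγ hα hlin (by simpa [lin] using flip_chk.2.2.2.1)
  have h := fix_line_chk
  simp only [List.all_eq_true, List.mem_range, Bool.or_eq_true, Bool.not_eq_true',
    Bool.and_eq_true, Nat.beq_eq, List.all_eq_false] at h
  obtain ⟨hb, hd⟩ := (h (b % 7) (Nat.mod_lt _ (by norm_num)) (d % 7)
    (Nat.mod_lt _ (by norm_num))).resolve_left (by
      rintro ⟨x, -, hne⟩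
      obtain ⟨y, -, hne'⟩ := by simpa [List.all_eq_false] using hne
      exact hne' (ht (x, y)))
  rw [hb] at hp'
  have fix : ∀ m : ℕ, h3 ^ m * el (0, d % 7) * (h3 ^ m)⁻¹ = pEl → ∃ g : G,
      (cj g * α) (ι sEl) = ι sEl ∧ (cj g * α) (ι pEl) = ι pEl := by
    intro m hm
    refine ⟨ι (h3 ^ m), ?_, ?_⟩
    · rw [cj_mul_apply, hs, ← map_inv, ← map_mul, ← map_mul,
        ((show Commute h3 sEl from h3_s).pow_left m).eq, mul_inv_cancel_right]
    · rw [cj_mul_apply, hp', ← map_inv, ← map_mul, ← map_mul, hm]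
  have h2 : ∀ k : ℕ, h3 * pEl ^ k * h3⁻¹ = pEl ^ (2 * k) := fun k => by
    rw [← conj_pow, h3_p, pow_mul]
  rcases hd with (hd | hd) | hd <;> rw [hd] at hp'
  · exact fix 0 (by rw [hd, el_p]; simp)
  · refine fix 2 ?_
    rw [hd, show el (0, 2) = pEl ^ 2 by simp [el], pow_two h3,
      show h3 * h3 * pEl ^ 2 * (h3 * h3)⁻¹ = h3 * (h3 * pEl ^ 2 * h3⁻¹) * h3⁻¹ by group, h2, h2,
      pow_eq_pow_mod _ p_pow7]
    simp
  · refine fix 1 ?_
    rw [hd, show el (0, 4) = pEl ^ 4 by simp [el], pow_one, h2, pow_eq_pow_mod _ p_pow7]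
    simp

omit hγ

theorem cent_s {g : G} (hg : g * ι sEl = ι sEl * g) : g ∈ ι.range :=
  C.cent_el (t := (1, 0)) flip_chk.2.2.2.1 (by rw [el_s]; exact hg)

theorem a_adjust {α : MulAut G} (hs : α (ι sEl) = ι sEl) (hp : α (ι pEl) = ι pEl) :
    ∃ g : G, (cj g * α) (ι sEl) = ι sEl ∧ (cj g * α) (ι pEl) = ι pEl ∧
      (cj g * α) (ι aEl) = ι aEl := by
  have hc : α (ι aEl) * ι sEl = ι sEl * α (ι aEl) := by
    rw [← hs, ← map_mul, ← map_mul, ← map_mul, ← map_mul, sa_comm.eq]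
  obtain ⟨y, hy⟩ := C.cent_s hc
  have inj := C.D.inj
  have hys : y * sEl = sEl * y := inj (by rw [map_mul, map_mul, hy]; exact hc)
  have ha2 : aEl * aEl = 1 := by
    rw [aEl, ← ew_append]; exact ew_eq sp_chk.2.2.2.2.2.1
  have hap : (aEl * pEl) ^ 7 = 1 := by
    rw [aEl, pEl, ← ew_append, ← ew_rep]; exact ew_eq sp_chk.2.2.2.2.2.2.2
  have hy2 : y * y = 1 := inj (by rw [map_mul, hy, ← map_mul, ← map_mul, ha2, map_one, map_one])
  have hy1 : y ≠ 1 := fun e => by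
    rw [e, map_one, eq_comm, MulEquiv.map_eq_one_iff] at hy
    exact ew_ne sp_chk.2.2.2.2.2.2.1 (inj (hy.trans (map_one ι).symm))
  have hy7 : (y * pEl) ^ 7 = 1 := inj (by
    rw [map_pow, map_mul, hy, ← hp, ← map_mul, ← map_mul, ← map_pow, ← map_pow, hap, map_one,
      map_one])
  obtain ⟨m, hm⟩ := invol_cases hys hy2 hy1 hy7
  refine ⟨(ι (pEl ^ m))⁻¹, ?_, ?_, ?_⟩
  · rw [cj_mul_apply, hs, inv_inv, mul_assoc, ← map_mul, ← (p_pow_comm_s m).eq, map_mul,
      inv_mul_cancel_left]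
  · rw [cj_mul_apply, hp, inv_inv, mul_assoc, ← map_mul,
      ((Commute.refl pEl).pow_right m).eq, map_mul, inv_mul_cancel_left]
  · rw [cj_mul_apply, ← hy, hm, inv_inv, map_mul, map_mul, map_inv]
    group

theorem a1_adjust {α : MulAut G} (hs : α (ι sEl) = ι sEl) (hp : α (ι pEl) = ι pEl)
    (ha : α (ι aEl) = ι aEl) :
    ∃ g : G, (cj g * α) (ι sEl) = ι sEl ∧ (cj g * α) (ι pEl) = ι pEl ∧
      (cj g * α) (ι aEl) = ι aEl ∧ (cj g * α) (ι a1El) = ι a1El := by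
  have hel : ∀ v, α (ι (el v)) = ι (el v) := fun v => by
    simp only [el, map_mul, map_pow, hs, hp]
  set z := (ι n1)⁻¹ * α (ι n1) with hz
  have conjz : ∀ q r : P, n1 * q * n1⁻¹ = r → α (ι q) = ι q → α (ι r) = ι r →
      z * ι q = ι q * z := by
    intro q r e hq hr
    rw [← e] at hr
    simp only [map_mul, map_inv, hq] at hr
    calc z * ι q = (ι n1)⁻¹ * (α (ι n1) * ι q * (α (ι n1))⁻¹) * α (ι n1) := by rw [hz]; group
      _ = (ι n1)⁻¹ * (ι n1 * ι q * (ι n1)⁻¹) * α (ι n1) := by rw [hr]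
      _ = ι q * z := by rw [hz]; group
  have hzs := conjz _ _ n1_s hs (hel _)
  have hzp := conjz _ _ n1_p hp (hel _)
  obtain ⟨k, hk⟩ := C.cent_s hzs
  have inj := C.D.inj
  obtain ⟨⟨x, y⟩, rfl⟩ := centralizer_Q (g := k)
    (inj (by rw [map_mul, map_mul, hk]; exact hzs)) (inj (by rw [map_mul, map_mul, hk]; exact hzp))
  refine ⟨(ι (el (y, 0)))⁻¹, ?_, ?_, ?_, ?_⟩
  · rw [cj_mul_apply, hs, inv_inv, mul_assoc, ← map_mul, show el (y, 0) = sEl ^ y by simp [el],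
      ((Commute.refl sEl).pow_right y).eq, map_mul, inv_mul_cancel_left]
  · rw [cj_mul_apply, hp, inv_inv, mul_assoc, ← map_mul, show el (y, 0) = sEl ^ y by simp [el],
      ((sp_comm.symm).pow_right y).eq, map_mul, inv_mul_cancel_left]
  · rw [cj_mul_apply, ha, inv_inv, mul_assoc, ← map_mul, show el (y, 0) = sEl ^ y by simp [el],
      ((sa_comm.symm).pow_right y).eq, map_mul, inv_mul_cancel_left]
  · have e1 : el (x, y) * aEl * (el (x, y))⁻¹ = pEl ^ y * aEl * (pEl ^ y)⁻¹ := by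
      have e : el (x, y) = pEl ^ y * sEl ^ x := (sp_comm.pow_pow x y).eq
      rw [e, mul_inv_rev, mul_assoc (pEl ^ y), (sa_comm.pow_left x).eq]
      group
    have e2 : n1 * (pEl ^ y * aEl * (pEl ^ y)⁻¹) * n1⁻¹ = el (y, 0) * a1El * (el (y, 0))⁻¹ := by
      have e3 : n1 * pEl ^ y * n1⁻¹ = el (y, 0) * el (1, 5) ^ (2 * y) := by
        rw [← conj_pow, n1_p, el_pow, el_pow, el_mul]
        exact el_eq_of_mod (by dsimp only; omega) (by dsimp only; omega)
      calc n1 * (pEl ^ y * aEl * (pEl ^ y)⁻¹) * n1⁻¹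
          = (n1 * pEl ^ y * n1⁻¹) * (n1 * aEl * n1⁻¹) * (n1 * pEl ^ y * n1⁻¹)⁻¹ := by group
        _ = el (y, 0) * (el (1, 5) ^ (2 * y) * a1El) * (el (y, 0) * el (1, 5) ^ (2 * y))⁻¹ := by
          rw [e3, n1_a]; group
        _ = _ := by
          rw [(((show Commute a1El (el (1, 5)) from a1_comm).pow_right (2 * y)).eq).symm]
          group
    have hα1 : α (ι a1El) = ι (el (y, 0) * a1El * (el (y, 0))⁻¹) := by
      rw [← e2, ← e1, ← n1_a]
      simp only [map_mul, map_inv, ha, hk]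
      rw [hz]
      group
    rw [cj_mul_apply, hα1, inv_inv, map_mul, map_mul, map_inv]
    group

theorem fix_all {α : MulAut G} (hs : α (ι sEl) = ι sEl) (hp : α (ι pEl) = ι pEl)
    (ha : α (ι aEl) = ι aEl) (h1 : α (ι a1El) = ι a1El) (q : P) : α (ι q) = ι q := by
  have hK : H22Th.Lsub ≤ ((α.toMonoidHom.comp ι).eqLocus ι) :=
    Lsub_le_of_mem hs hp ha h1
  have hL : ∀ l ∈ H22Th.Lsub, α (ι l) = ι l := fun l hl => hK hl
  set z := (ι q)⁻¹ * α (ι q) with hz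
  have hzl : ∀ l ∈ H22Th.Lsub, z * ι l = ι l * z := fun l hl => by
    have h := hL _ (H22Th.Lsub_normal.conj_mem l hl q)
    simp only [map_mul, map_inv, hL l hl] at h
    calc z * ι l = (ι q)⁻¹ * (α (ι q) * ι l * (α (ι q))⁻¹) * α (ι q) := by rw [hz]; group
      _ = (ι q)⁻¹ * (ι q * ι l * (ι q)⁻¹) * α (ι q) := by rw [h]
      _ = ι l * z := by rw [hz]; group
  obtain ⟨k, hk⟩ := C.cent_s (hzl _ (H22Th.evw_mem (by decide)))
  have : k = 1 := eq_one_of_centralizes fun l hl => C.D.inj (by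
    rw [map_mul, map_mul, hk]; exact hzl l hl)
  rw [this, map_one, hz, eq_comm, inv_mul_eq_one] at hk
  exact hk.symm

include hγ

/-- up to an inner automorphism the model is fixed pointwise -/
theorem exists_fix (α : MulAut G) : ∃ g : G, ∀ q, (cj g * α) (ι q) = ι q := by
  obtain ⟨g1, h1⟩ := C.sylow_adjust α
  obtain ⟨g2, h2, h2s⟩ := C.s_adjust hγ h1
  obtain ⟨g3, h3s, h3p⟩ := C.p_adjust hγ h2 h2s
  obtain ⟨g4, h4s, h4p, h4a⟩ := C.a_adjust h3s h3p
  obtain ⟨g5, h5s, h5p, h5a, h5b⟩ := C.a1_adjust h4s h4p h4a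
  refine ⟨g5 * g4 * g3 * g2 * g1, fun q => ?_⟩
  have := C.fix_all h5s h5p h5a h5b q
  simpa only [cj, map_mul, mul_assoc] using this

end Ctx

end H87.ThOut
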