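import Cfsg.Agent.H87.ThOut.IdE
import Cfsg.Agent.H87.ThOut.Steps
import Cfsg.Agent.H96.ThSimple.Final
import Cfsg.Prelude.Def_KGroupFacts

/-!
Every automorphism of the presented Thompson group is inner.
-/

set_option autoImplicit false
set_option maxRecDepth 100000

namespace H87.ThOut

open MulAction
open H22Th (P iota)
open H96.ThSimple (GT nTh lTh dsize)

local notation "gT" => H96.ThSimple.gen

theorem iota_gen : ∀ l < 6, iota (H22Th.gen l) = (gT (genOf l))⁻¹ := by
  intro l hl
  interval_cases l <;> (simp [H22Th.gen, H22Th.lett, genOf, H22Th.iota_x, H22Th.thImg]; rfl)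

theorem val_ew : ∀ {w : List ℕ}, (∀ l ∈ w, l < 6) → val w = (iota (ew w))⁻¹
  | [], _ => by simp [val, ew]
  | l :: w, h => by
    have hl := h l List.mem_cons_self
    rw [show val (l :: w) = gT (genOf l) * val w by simp [val],
      val_ew fun x hx => h x (List.mem_cons_of_mem _ hx),
      show ew (l :: w) = ew w * H22Th.gen l from rfl, map_mul, iota_gen l hl, mul_inv_rev, inv_inv]

theorem val_append (u v : List ℕ) : val (u ++ v) = val u * val v := by simp [val]

theorem elPos_lt (v : ℕ × ℕ) : ∀ l ∈ elPos v, l < 6 := by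
  intro l hl
  have h5 : ∀ m ∈ ([5] : List ℕ), m < 6 := by decide
  have hp : ∀ m ∈ pPos, m < 6 := by decide
  simp only [elPos, rep', List.mem_append, List.mem_flatten, List.mem_replicate] at hl
  rcases hl with ⟨w, ⟨-, rfl⟩, hw⟩ | ⟨w, ⟨-, rfl⟩, hw⟩
  exacts [h5 l hw, hp l hw]

theorem val_elPos (v : ℕ × ℕ) : val (elPos v) = (iota (el v))⁻¹ := by
  rw [val_ew (elPos_lt v), elPos, ew_append, ew_rep, ew_rep, ← ew_eq sp_chk.2.2.2.2.1]
  exact congrArg (fun z => (iota z)⁻¹) ((sp_comm.pow_pow v.1 v.2).eq.symm)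

theorem conj_of_side {G : Type*} [Group G] {g x y : G} (h : x⁻¹ * g = g * y⁻¹) :
    g⁻¹ * x * g = y := by
  calc g⁻¹ * x * g = g⁻¹ * x * (g * y⁻¹) * y := by group
    _ = g⁻¹ * x * (x⁻¹ * g) * y := by rw [h]
    _ = y := by group

section

variable [Finite GT] (hmax : ∀ H : Subgroup GT, nTh ≤ H → H = nTh ∨ H = ⊤)

include hmax

theorem side_conj {x y : ℕ × ℕ} {g : List ℕ} (hg : ∀ l ∈ g, l < 8)
    (h : sameTop H62.Th.code (sideL x g) (sideR g y) = true) :
    (val g)⁻¹ * iota (el x) * val g = iota (el y) := by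
  have h8 : ∀ v, ∀ l ∈ elPos v, l < 8 := fun v l hl => (elPos_lt v l hl).trans (by norm_num)
  have e := val_eq_of_check hmax h
    (fun l hl => (List.mem_append.mp hl).elim (h8 x l) (hg l))
    (fun l hl => (List.mem_append.mp hl).elim (hg l) (h8 y l))
  rw [sideL, sideR, val_append, val_append, val_elPos, val_elPos] at e
  exact conj_of_side e

theorem gamma_lin (v : ℕ × ℕ) : (val gammaPos)⁻¹ * iota (el v) * val gammaPos =
    iota (el (lin gammaS.1 gammaP.1 gammaS.2 gammaP.2 v)) := by
  have hg : ∀ l ∈ gammaPos, l < 8 := by decide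
  have h1 := side_conj hmax hg gamma_s_chk
  have h2 := side_conj hmax hg gamma_p_chk
  rw [el_s] at h1
  rw [el_p] at h2
  let f : MulAut GT := MulAut.conj (val gammaPos)⁻¹
  have hf : ∀ z, f z = (val gammaPos)⁻¹ * z * val gammaPos := fun z => by
    simp [f, MulAut.conj_apply]
  rw [← hf] at h1 h2 ⊢
  rw [show el v = sEl ^ v.1 * pEl ^ v.2 from rfl, map_mul, map_pow, map_pow, map_mul, map_pow,
    map_pow, h1, h2, ← map_pow, ← map_pow, ← map_mul, el_pow, el_pow, el_mul]
  rfl

/-- the data about the two cells -/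
noncomputable def sevenTh : Seven iota tp where
  tp_conj := tp_conj
  Q := Qsub
  card_Q := card_Qsub
  γ := val gammaPos
  γ_not := not_mem_of_keep hmax (by decide) keep_gamma
  γ_img := by
    rintro _ ⟨v, rfl⟩ hv
    refine ⟨_, gamma_lin hmax v, ?_⟩
    have hne : v.1 % 7 ≠ 0 ∨ v.2 % 7 ≠ 0 := by
      by_contra h
      push Not at h
      exact hv (by rw [el_mod, h.1, h.2, el_zero])
    have h := flip_chk.1
    simp only [List.all_eq_true, List.mem_range, Bool.or_eq_true, Bool.and_eq_true, Nat.beq_eq,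
      beq_iff_eq] at h
    have h' := (h (v.1 % 7) (Nat.mod_lt _ (by norm_num)) (v.2 % 7)
      (Nat.mod_lt _ (by norm_num))).resolve_left (by omega)
    rw [el_eq_of_mod (v := lin gammaS.1 gammaP.1 gammaS.2 gammaP.2 (v.1 % 7, v.2 % 7))
      (by simp [lin, Nat.add_mod, Nat.mul_mod]) (by simp [lin, Nat.add_mod, Nat.mul_mod]),
      tp_el, tp_el, h', isA_mod]
  w := val wPos
  w_not := not_mem_of_keep hmax (by decide) keep_w
  z := el wSrc
  y := el wDst
  w_img := by
    rw [← side_conj hmax (by decide) w_chk]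
    group
  z_ord := by
    haveI : Fact (Nat.Prime 7) := ⟨by norm_num⟩
    refine orderOf_eq_prime ?_ fun e => ?_
    · rw [el_pow, el_eq_of_mod (v := (0, 0)) (by dsimp only; omega) (by dsimp only; omega), el_zero]
    · have e1 := el_eq_one e
      simp [wSrc] at e1
  z_tp := fun k hk => by
    rw [el_pow, tp_el]
    have h := List.all_eq_true.mp flip_chk.2.1 (k % 7) (List.mem_range.mpr (Nat.mod_lt _ (by norm_num)))
    simp only [Bool.or_eq_true, Nat.beq_eq, Bool.not_eq_true'] at h
    have h' := h.resolve_left (by omega)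
    rw [← h', ← isA_mod, ← isA_mod (wSrc.1 * (k % 7), wSrc.2 * (k % 7))]
    simp only [Nat.mul_mod_mod]
  y_tp := by rw [tp_el]; exact flip_chk.2.2.1

end

theorem gen_u_not [Finite GT] (hmax : ∀ H : Subgroup GT, nTh ≤ H → H = nTh ∨ H = ⊤) :
    gT .u ∉ iota.range := by
  have h := not_mem_of_keep hmax (u := [7]) (by decide) keep_u
  simpa [val, genOf] using h

/-- the value of a letter of `hMac` -/
noncomputable def letG : ℕ → GT
  | 6 => (gT .s)⁻¹
  | 7 => gT .t
  | 8 => (gT .t)⁻¹
  | l => gT (genOf l)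

theorem iota_gen' : ∀ l < 9, iota (H22Th.gen l) = (letG l)⁻¹ := by
  intro l hl
  interval_cases l <;> (simp [H22Th.gen, H22Th.lett, letG, genOf, H22Th.iota_x, H22Th.thImg]; rfl)

theorem iota_ew : ∀ {w : List ℕ}, (∀ l ∈ w, l < 9) → iota (ew w) = ((w.map letG).prod)⁻¹
  | [], _ => by simp [ew]
  | l :: w, h => by
    rw [show ew (l :: w) = ew w * H22Th.gen l from rfl, map_mul,
      iota_gen' l (h l List.mem_cons_self), iota_ew fun x hx => h x (List.mem_cons_of_mem _ hx),
      List.map_cons, List.prod_cons, mul_inv_rev]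

theorem twist_word_chk : H77.HN.agree H22Th.Tact H22Th.B819 (hImg.getD 6 [])
    [1, 0, 2, 1, 3, 2, 3, 4, 3, 2, 3, 1, 2, 3, 0, 1, 2, 3] = true := by
  decide +kernel

theorem twist_img : ∀ i < 7, (gT .u)⁻¹ * iota (ew (hLet i)) * gT .u = iota (ew (hImg.getD i [])) := by
  have key : ∀ {A B u : GT}, u⁻¹ * A * u = B → u⁻¹ * A⁻¹ * u = B⁻¹ := fun {A B u} e => by
    rw [← e]; group
  intro i hi
  have hl : ∀ i < 7, (∀ l ∈ hLet i, l < 9) ∧ ∀ l ∈ hImg.getD i [], l < 9 := by decide
  rw [iota_ew (hl i hi).1, iota_ew (hl i hi).2]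
  refine key ?_
  interval_cases i
  · simp [hLet, hMac, hImg, letG, genOf]
    exact H22Th.twist_a
  · simp [hLet, hMac, hImg, letG, genOf]
    exact H22Th.twist_c
  · simp [hLet, hMac, hImg, letG, genOf]
    exact H22Th.twist_e
  · simp [hLet, hMac, hImg, letG, genOf]
    exact H22Th.twist_t
  · have h := H22Th.twist_bacb
    simp only [mul_assoc] at h
    simp [hLet, hMac, hImg, letG, genOf, mul_assoc]
    exact h
  · have h := H22Th.twist_sseSS
    simp only [mul_assoc] at h
    simp [hLet, hMac, hImg, letG, genOf, mul_assoc]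
    exact h
  · have hR : ∀ l ∈ [1, 0, 2, 1, 3, 2, 3, 4, 3, 2, 3, 1, 2, 3, 0, 1, 2, 3], l < 9 := by decide
    have e : ((hImg.getD 6 []).map letG).prod =
        ([1, 0, 2, 1, 3, 2, 3, 4, 3, 2, 3, 1, 2, 3, 0, 1, 2, 3].map letG).prod := inv_injective (by
      rw [← iota_ew (hl 6 (by norm_num)).2, ← iota_ew hR, ew_eq twist_word_chk])
    have h := H93.Th.twist_dcd H93.Th.rho H93.Th.rho_of
    simp only [mul_assoc] at h
    rw [e]
    simp [hLet, hMac, letG, genOf, mul_assoc]
    exact h

theorem mem_Lsub_of_lt {w : List ℕ} (h : w.all (fun l => Nat.blt l 7) = true) :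
    ew w ∈ H22Th.Lsub :=
  H22Th.evw_mem fun l hl => by simpa [Nat.blt_eq] using List.all_eq_true.mp h l hl

theorem quot_comm (a b : P ⧸ H22Th.Lsub) : a * b = b * a := by
  haveI : Fact (Nat.Prime 3) := ⟨by norm_num⟩
  exact H96.ThSimple.comm_of_card_prime (p := 3)
    (by rw [← Subgroup.index_eq_card]; exact H93.Th.index_Lsub) a b

section

variable [Finite GT] (hinj : Function.Injective iota)

/-- conjugation by `u`, read in the model -/
noncomputable def psi (hinj : Function.Injective iota) :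
    stab iota ((gT .u : GT) : GT ⧸ iota.range) →* P :=
  (MonoidHom.ofInjective hinj).symm.toMonoidHom.comp
    (((MulAut.conj (gT .u)⁻¹).toMonoidHom.comp (iota.comp (Subgroup.subtype _))).codRestrict
      iota.range fun k => by
        have h := mem_stab_mk.mp k.2
        simpa [MulAut.conj_apply] using h)

theorem iota_psi (k : stab iota ((gT .u : GT) : GT ⧸ iota.range)) :
    iota (psi hinj k) = (gT .u)⁻¹ * iota k * gT .u := by
  simp [psi, MonoidHom.apply_ofInjective_symm, MulAut.conj_apply]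

/-- the product of the two images modulo the simple subgroup -/
noncomputable def theta (hinj : Function.Injective iota) :
    stab iota ((gT .u : GT) : GT ⧸ iota.range) →* P ⧸ H22Th.Lsub :=
  MonoidHom.mk' (fun k => QuotientGroup.mk' H22Th.Lsub (psi hinj k) *
      QuotientGroup.mk' H22Th.Lsub (k : P)) fun a b => by
    simp only [map_mul, Subgroup.coe_mul]
    rw [mul_assoc, ← mul_assoc (QuotientGroup.mk' _ (psi hinj b)),
      quot_comm (QuotientGroup.mk' _ (psi hinj b))]
    simp only [mul_assoc]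

theorem hsub_ker : Hsub ≤ (theta hinj).ker.map (Subgroup.subtype _) := by
  rw [Hsub, Subgroup.closure_le]
  rintro _ ⟨i, rfl⟩
  have main : ∀ i < 7, ew (hLet i) ∈ (theta hinj).ker.map (Subgroup.subtype _) := by
    intro i hi
    have hm : ew (hLet i) ∈ stab iota ((gT .u : GT) : GT ⧸ iota.range) := by
      rw [mem_stab_mk, twist_img i hi]; exact ⟨_, rfl⟩
    refine ⟨⟨_, hm⟩, ?_, rfl⟩
    have e : psi hinj ⟨_, hm⟩ = ew (hImg.getD i []) :=
      hinj ((iota_psi hinj _).trans (twist_img i hi))
    rw [SetLike.mem_coe, MonoidHom.mem_ker, theta, MonoidHom.mk'_apply, e, ← map_mul,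
      QuotientGroup.mk'_apply, QuotientGroup.eq_one_iff]
    have h := List.all_eq_true.mp Hsub_chk.2.2.2.1 i (List.mem_range.mpr hi)
    simp only [Bool.and_eq_true, Bool.or_eq_true, Nat.beq_eq] at h
    rcases h.2 with rfl | ⟨h1, h2⟩
    · show ew [8] * ew [7] ∈ _
      rw [← ew_append, ew_eq Hsub_chk.2.2.2.2.1]
      exact one_mem _
    · exact mul_mem (mem_Lsub_of_lt h2) (mem_Lsub_of_lt h1)
  show ew (hLet i) ∈ _
  by_cases h7 : i < 7
  · exact main i h7
  by_cases h14 : i < 14
  · obtain ⟨j, rfl⟩ : ∃ j, i = j + 7 := ⟨i - 7, by omega⟩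
    have h := List.all_eq_true.mp Hsub_chk.2.2.2.1 j (List.mem_range.mpr (by omega))
    simp only [Bool.and_eq_true] at h
    have e := ew_eq h.1
    rw [ew_append] at e
    rw [eq_inv_of_mul_eq_one_right e]
    exact inv_mem (main j (by omega))
  · have : hLet i = [] := List.getD_eq_default _ _ (by rw [Hsub_chk.2.2.2.2.2]; omega)
    rw [this]
    exact one_mem _

include hinj in
theorem hsub_le_stab : Hsub ≤ stab iota ((gT .u : GT) : GT ⧸ iota.range) := fun h hh => by
  obtain ⟨k, -, rfl⟩ := hsub_ker hinj hh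
  exact k.2

end

theorem small_index : ∀ i : Fin 11, dsize i * 14592 ≤ 634023936 → i = 0 ∨ i = 1 := by
  decide +kernel

theorem eq_one_of_fix_range [Finite GT] (D : Cells iota)
    (hmax : ∀ H : Subgroup GT, nTh ≤ H → H = nTh ∨ H = ⊤) {α : MulAut GT}
    (hα : ∀ q, α (iota q) = iota q) : α = 1 := by
  set u : GT := gT .u with hu
  set c : GT := α u * u⁻¹ with hcdef
  have hc : ∀ h ∈ Hsub, c⁻¹ * iota h * c = iota h := by
    intro h hh
    obtain ⟨y, hy⟩ := mem_stab_mk.mp (hsub_le_stab D.inj hh)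
    have h2 : (α u)⁻¹ * iota h * α u = iota y := by
      have := congrArg α hy
      simp only [map_mul, map_inv, hα] at this
      exact this.symm
    calc c⁻¹ * iota h * c = u * ((α u)⁻¹ * iota h * α u) * u⁻¹ := by rw [hcdef]; group
      _ = iota h := by rw [h2, hy, ← hu]; group
  have hsc : Hsub ≤ stab iota (c : GT ⧸ iota.range) := fun h hh => by
    rw [mem_stab_mk, hc h hh]; exact ⟨_, rfl⟩
  have idx : ∀ g : GT, Hsub ≤ stab iota (g : GT ⧸ iota.range) →
      g ∈ iota.range ∨ (g : GT ⧸ iota.range) ∈ orbit iota.range (D.q 1) := by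
    intro g hg
    obtain ⟨i, hi⟩ := D.cover (g : GT ⧸ iota.range)
    have h1 := D.card_stab hi
    have h2 : Nat.card Hsub ≤ Nat.card (stab iota (g : GT ⧸ iota.range)) :=
      Subgroup.card_le_of_le hg
    have h3 : dsize i * 14592 ≤ 634023936 := by
      rw [← h1, mul_comm (Nat.card _)]
      exact Nat.mul_le_mul_left _ (card_Hsub.trans h2)
    rcases small_index i h3 with rfl | rfl
    · exact Or.inl (D.mem_range_of_zero hi)
    · exact Or.inr hi
  have huo := (idx u (hsub_le_stab D.inj)).resolve_left (gen_u_not hmax)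
  rcases idx c hsc with hcr | hco
  · obtain ⟨k, hk⟩ := hcr
    have hk1 : k = 1 := centralizer_hGens fun i => D.inj (by
      have h := hc _ (Subgroup.subset_closure ⟨i, rfl⟩)
      rw [← hk] at h
      rw [map_mul, map_mul]
      calc iota k * iota (ew (hLet i))
          = iota k * ((iota k)⁻¹ * iota (ew (hLet i)) * iota k) := by rw [h]
        _ = iota (ew (hLet i)) * iota k := by group)
    rw [hk1, map_one, hcdef, eq_comm, mul_inv_eq_one] at hk
    have hall : Subgroup.closure (Set.range fun g => gT g) ≤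
        α.toMonoidHom.eqLocus (MonoidHom.id GT) := by
      rw [Subgroup.closure_le]
      rintro _ ⟨g, rfl⟩
      show α (gT g) = gT g
      have hr : ∀ g, g ≠ Cfsg.Spor.Th.Gen.u → gT g ∈ iota.range := fun g hg => by
        rw [H96.ThSimple.model_range, H96.ThSimple.nTh_eq]
        exact Subgroup.subset_closure (by cases g <;> simp at hg ⊢)
      by_cases hg : g = .u
      · subst hg; exact hk
      · obtain ⟨q, hq⟩ := hr g hg
        rw [← hq, hα]
    rw [show (Set.range fun g => gT g) = Set.range PresentedGroup.of from rfl,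
      PresentedGroup.closure_range_of] at hall
    exact MulEquiv.ext fun x => hall (Subgroup.mem_top x)
  · exfalso
    obtain ⟨n, hn⟩ := D.exists_move hco huo
    rw [MulAction.Quotient.smul_coe, smul_eq_mul, QuotientGroup.eq] at hn
    obtain ⟨k, hk⟩ := hn
    have hceq : c = iota n * u * iota k := by rw [hk]; group
    have hlet : ew (hLet 3) = H22Th.gen 7 := H77.HN.evw_singleton _ _
    have ht : H22Th.gen 7 ∈ Hsub := hlet ▸ Subgroup.subset_closure ⟨3, rfl⟩
    set T := H22Th.gen 7 with hT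
    have h1 : u⁻¹ * iota (n⁻¹ * T * n) * u = iota (k * T * k⁻¹) := by
      have h := hc T ht
      rw [hceq] at h
      simp only [map_mul, map_inv]
      calc u⁻¹ * ((iota n)⁻¹ * iota T * iota n) * u
          = iota k * ((iota n * u * iota k)⁻¹ * iota T * (iota n * u * iota k)) * (iota k)⁻¹ := by
            group
        _ = iota k * iota T * (iota k)⁻¹ := by rw [h]
    have hm : n⁻¹ * T * n ∈ stab iota (u : GT ⧸ iota.range) := by
      rw [mem_stab_mk, h1]; exact ⟨_, rfl⟩
    have hker : (theta D.inj).ker = ⊤ := by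
      have h1 : Nat.card (stab iota (u : GT ⧸ iota.range)) = 36864 := by
        have h := D.card_stab huo
        rw [show dsize 1 = 17199 from rfl] at h
        omega
      have h2 : 14592 ≤ Nat.card (theta D.inj).ker := by
        refine card_Hsub.trans ?_
        refine (Subgroup.card_le_of_le (hsub_ker D.inj)).trans ?_
        rw [Subgroup.card_map_of_injective (Subgroup.subtype_injective _)]
      have h3 := Subgroup.card_mul_index (theta D.inj).ker
      rw [h1, Subgroup.index_ker] at h3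
      have h4 : Nat.card (theta D.inj).range ∣ 3 :=
        H93.Th.index_Lsub ▸ Subgroup.card_subgroup_dvd_card _
      rcases (Nat.dvd_prime Nat.prime_three).mp h4 with h4 | h4
      · rw [h4, mul_one] at h3
        exact Subgroup.eq_top_of_card_eq _ (h3.trans h1.symm)
      · rw [h4] at h3; omega
    have hθ : theta D.inj ⟨_, hm⟩ = 1 :=
      MonoidHom.mem_ker.mp (hker ▸ Subgroup.mem_top _)
    have hψ : psi D.inj ⟨_, hm⟩ = k * T * k⁻¹ := D.inj ((iota_psi D.inj _).trans h1)
    rw [theta, MonoidHom.mk'_apply, hψ] at hθ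
    simp only [map_mul, map_inv] at hθ
    set χ := QuotientGroup.mk' H22Th.Lsub
    rw [quot_comm (χ k), mul_inv_cancel_right, mul_assoc (χ n)⁻¹, quot_comm (χ T) (χ n),
      inv_mul_cancel_left] at hθ
    have h3 : χ T ^ 3 = 1 := by
      rw [hT, ← map_pow, show H22Th.gen 7 = (H22Th.x 6)⁻¹ by simp [H22Th.gen, H22Th.lett],
        inv_pow, H22Th.rels_x.t3, inv_one, map_one]
    have hT1 : χ T = 1 := by rwa [pow_succ, pow_two, hθ, one_mul] at h3
    have hmem : H22Th.x 6 ∈ H22Th.Lsub := by
      have h := (QuotientGroup.eq_one_iff T).mp hT1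
      rw [hT, show H22Th.gen 7 = (H22Th.x 6)⁻¹ by simp [H22Th.gen, H22Th.lett]] at h
      exact inv_mem_iff.mp h
    have htop : H22Th.Lsub = ⊤ := by
      rw [eq_top_iff, ← H22Th.closure_x, Subgroup.closure_le]
      rintro y (rfl | rfl | rfl | rfl | rfl | rfl | rfl)
      rotate_right
      · exact hmem
      all_goals exact H22Th.x_mem (by decide)
    have h5 := H93.Th.index_Lsub
    rw [htop, Subgroup.index_top] at h5
    norm_num at h5

theorem mem_inn (α : MulAut GT) : α ∈ (MulAut.conj : GT →* MulAut GT).range := by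
  obtain ⟨D⟩ := H96.ThSimple.data_exists
  have hinj : Function.Injective iota := H93.Th.iota_inj H93.Th.rho H93.Th.rho_of
  have hcard := D.card_GT
  have hN := D.card_nTh
  have hsimple : IsSimpleGroup GT := D.isTh_presented.1
  haveI := H96.ThSimple.finite_GT hcard
  obtain ⟨q, hcov, hbnd⟩ := D.orbits
  have hmax := H96.ThSimple.eq_or_eq_top hcard hN q hcov hbnd
  have hsize : ∀ i, Nat.card (orbit nTh (q i)) = dsize i := fun i => by
    have hidx : Nat.card (GT ⧸ nTh) = 143127000 := D.index_eq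
    have h := H96.ThSimple.card_union (fun i => orbit nTh (q i)) dsize hcov hbnd
      (H96.ThSimple.dsize_sum.trans hidx.symm) (orbit nTh (q i)) {i}
      (fun j hj => by rw [Finset.mem_singleton.mp hj])
      (fun x hx => ⟨i, Finset.mem_singleton_self i, hx⟩)
    simpa using h
  have hnorm : Subgroup.normalizer (nTh : Set GT) = nTh := by
    refine (hmax _ Subgroup.le_normalizer).resolve_right fun h => ?_
    have hn : nTh.Normal := Subgroup.normalizer_eq_top_iff.mp h
    rcases hn.eq_bot_or_eq_top with h' | h'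
    · rw [h', Subgroup.card_bot] at hN; norm_num at hN
    · rw [h', Subgroup.card_top, hcard] at hN; norm_num at hN
  have mk : ∀ (N : Subgroup GT), N = nTh → (∀ _ : N = nTh, ∃ q' : Fin 11 → GT ⧸ N,
      (∀ c, ∃ i, c ∈ orbit N (q' i)) ∧ (∀ i, Nat.card (orbit N (q' i)) = dsize i)) := by
    rintro N rfl -
    exact ⟨q, hcov, hsize⟩
  obtain ⟨q', hcov', hsize'⟩ := mk _ H96.ThSimple.model_range H96.ThSimple.model_range
  let DC : Cells iota :=
    { inj := hinj
      norm := by rw [H96.ThSimple.model_range]; exact hnorm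
      card_P := H22Th.card_P
      q := q'
      cover := hcov'
      size := hsize' }
  let S := sevenTh (hmax)
  let C : Ctx iota :=
    { fin := inferInstance, card_G := hcard, D := DC, S := S, hQ := rfl }
  have hγ : Ctx.Maps iota (Ctx.cj C.S.γ⁻¹) := fun v => by
    refine ⟨lin gammaS.1 gammaP.1 gammaS.2 gammaP.2 v, ?_⟩
    rw [Ctx.cj, MulAut.conj_apply, inv_inv]
    exact gamma_lin hmax v
  obtain ⟨g, hg⟩ := C.exists_fix hγ α
  have h := eq_one_of_fix_range DC hmax hg
  exact ⟨g⁻¹, by rw [map_inv, inv_eq_iff_mul_eq_one.mpr]; exact h⟩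

theorem out_card : Nat.card (Cfsg.Out Cfsg.Spor.Th) = 1 := by
  have htop : Cfsg.Inn Cfsg.Spor.Th = ⊤ := eq_top_iff.mpr fun α _ => mem_inn α
  show Nat.card (MulAut Cfsg.Spor.Th ⧸ Cfsg.Inn Cfsg.Spor.Th) = 1
  rw [← Subgroup.index_eq_card, htop, Subgroup.index_top]

end H87.ThOut
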