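import Cfsg.Agent.H22.Th.Simple
import Cfsg.Agent.H87.ThOut.IdWords

/-!
Elements given by words in the point model of the subgroup generated by a, ..., t: two commuting
elements of order seven, the subgroup they generate, its two kinds of elements.
-/

set_option autoImplicit false
set_option maxRecDepth 100000

namespace H87.ThOut

open H22Th (P act gen Tact rep rep_isBase B819)
open H77.HN (run runK runK_eq evw agree invw)

/-- the value of a word -/
noncomputable abbrev ew (w : List ℕ) : P := evw gen w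

theorem ew_append (u v : List ℕ) : ew (u ++ v) = ew v * ew u := H77.HN.evw_append gen u v

theorem ew_eq {u v : List ℕ} (h : agree Tact B819 u v = true) : ew u = ew v :=
  rep.evw_eq_of_agree rep_isBase h

theorem ew_ne {u v : List ℕ} (h : agree Tact B819 u v = false) : ew u ≠ ew v := by
  intro e
  have hall : agree Tact B819 u v = true := by
    rw [agree, List.all_eq_true]
    intro b hb
    rw [Nat.beq_eq, runK_eq, runK_eq]
    have hb' : b < 819 := rep_isBase.1 b hb
    rw [← rep.evw_apply u ⟨b, hb'⟩, ← rep.evw_apply v ⟨b, hb'⟩]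
    exact congrArg (fun g => (rep.φ g ⟨b, hb'⟩ : ℕ)) e
  rw [h] at hall
  exact Bool.noConfusion hall

theorem ew_rep (n : ℕ) (w : List ℕ) : ew (rep' n w) = ew w ^ n := by
  induction n with
  | zero => simp [rep', ew]
  | succ n ih =>
    rw [show rep' (n + 1) w = w ++ rep' n w by simp [rep', List.replicate_succ], ew_append, ih,
      pow_succ]

theorem ew_flat_mem {K : Subgroup P} {f : ℕ → List ℕ} {m : List ℕ} (h : ∀ l ∈ m, ew (f l) ∈ K) :
    ew (m.flatMap f) ∈ K := by
  induction m with
  | nil => simp [ew]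
  | cons l m ih =>
    rw [List.flatMap_cons, ew_append]
    exact mul_mem (ih fun x hx => h x (List.mem_cons_of_mem _ hx)) (h l List.mem_cons_self)

theorem ew_conj (u w : List ℕ) :
    ew (invw H22Th.iv w ++ u ++ w) = ew w * ew u * (ew w)⁻¹ := by
  rw [ew_append, ew_append, show ew (invw H22Th.iv w) = (ew w)⁻¹ from
    H77.HN.evw_invw H22Th.gen_iv w, mul_assoc]

/-- two words with commuting values -/
noncomputable def commW (u v : List ℕ) : Bool := agree Tact B819 (u ++ v) (v ++ u)

theorem commW_eq {u v : List ℕ} (h : commW u v = true) : ew u * ew v = ew v * ew u := by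
  have e := ew_eq h
  rw [ew_append, ew_append] at e
  exact e.symm

theorem commW_of {u v : List ℕ} (h : ew u * ew v = ew v * ew u) : commW u v = true := by
  cases hb : commW u v with
  | true => rfl
  | false => exact absurd (by rw [ew_append, ew_append]; exact h.symm) (ew_ne hb)

/-- the first element of order seven -/
noncomputable def sEl : P := ew sWord

/-- the second one -/
noncomputable def pEl : P := ew pWord

/-- the involution -/
noncomputable def aEl : P := ew aWord

theorem sp_chk : commW sWord pWord = true ∧ commW sWord aWord = true ∧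
    agree Tact B819 (rep' 7 sWord) [] = true ∧ agree Tact B819 (rep' 7 pWord) [] = true ∧
    agree Tact B819 pWord pPos = true ∧ agree Tact B819 (aWord ++ aWord) [] = true ∧
    agree Tact B819 aWord [] = false ∧
    agree Tact B819 (rep' 7 (pWord ++ aWord)) [] = true := by
  decide +kernel

theorem sp_comm : Commute sEl pEl := commW_eq sp_chk.1

theorem sa_comm : Commute sEl aEl := commW_eq sp_chk.2.1

theorem s_pow7 : sEl ^ 7 = 1 := by
  rw [sEl, ← ew_rep, ew_eq sp_chk.2.2.1]; rfl

theorem p_pow7 : pEl ^ 7 = 1 := by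
  rw [pEl, ← ew_rep, ew_eq sp_chk.2.2.2.1]; rfl

/-- the elements of the subgroup generated by the two -/
noncomputable def el (v : ℕ × ℕ) : P := sEl ^ v.1 * pEl ^ v.2

/-- a word for it -/
def elW (v : ℕ × ℕ) : List ℕ := rep' v.2 pWord ++ rep' v.1 sWord

theorem ew_elW (v : ℕ × ℕ) : ew (elW v) = el v := by
  rw [elW, ew_append, ew_rep, ew_rep, el, sEl, pEl]

theorem el_zero : el (0, 0) = 1 := by simp [el]

theorem el_s : el (1, 0) = sEl := by simp [el]

theorem el_p : el (0, 1) = pEl := by simp [el]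

theorem el_mul (u v : ℕ × ℕ) : el u * el v = el (u.1 + v.1, u.2 + v.2) := by
  simp only [el, pow_add]
  rw [mul_assoc, ← mul_assoc (pEl ^ u.2), ((sp_comm.pow_pow v.1 u.2).symm).eq]
  simp only [mul_assoc]

theorem el_pow (u : ℕ × ℕ) (n : ℕ) : el u ^ n = el (u.1 * n, u.2 * n) := by
  induction n with
  | zero => simp [el_zero]
  | succ n ih => rw [pow_succ, ih, el_mul]; simp [Nat.mul_succ]

theorem el_mod (i j : ℕ) : el (i, j) = el (i % 7, j % 7) := by
  have h1 : sEl ^ i = sEl ^ (i % 7) := pow_eq_pow_mod i s_pow7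
  have h2 : pEl ^ j = pEl ^ (j % 7) := pow_eq_pow_mod j p_pow7
  show sEl ^ i * pEl ^ j = _
  rw [h1, h2]; rfl

theorem el_eq_of_mod {u v : ℕ × ℕ} (h1 : u.1 % 7 = v.1 % 7) (h2 : u.2 % 7 = v.2 % 7) :
    el u = el v := by
  rw [el_mod u.1 u.2, h1, h2, ← el_mod]

theorem el_kernel : ∀ i < 7, ∀ j < 7,
    agree Tact B819 (elW (i, j)) [] = (Nat.beq i 0 && Nat.beq j 0) := by
  decide +kernel

theorem el_eq_one {v : ℕ × ℕ} (h : el v = 1) : v.1 % 7 = 0 ∧ v.2 % 7 = 0 := by
  rw [el_mod] at h
  have h' := el_kernel (v.1 % 7) (Nat.mod_lt _ (by norm_num)) (v.2 % 7) (Nat.mod_lt _ (by norm_num))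
  cases hb : (Nat.beq (v.1 % 7) 0 && Nat.beq (v.2 % 7) 0) with
  | true => simpa [Nat.beq_eq] using hb
  | false =>
    rw [hb] at h'
    exact absurd ((ew_elW _).trans h) (ew_ne h')

theorem el_inj {u v : ℕ × ℕ} (h : el u = el v) : u.1 % 7 = v.1 % 7 ∧ u.2 % 7 = v.2 % 7 := by
  have h1 : el (u.1 + 6 * v.1, u.2 + 6 * v.2) = 1 := by
    have e : el (u.1 + 6 * v.1, u.2 + 6 * v.2) = el u * el (6 * v.1, 6 * v.2) :=
      (el_mul u (6 * v.1, 6 * v.2)).symm
    rw [e, h, el_mul, el_eq_of_mod (v := (0, 0)) (by dsimp only; omega) (by dsimp only; omega),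
      el_zero]
  obtain ⟨e1, e2⟩ := el_eq_one h1
  dsimp only at e1 e2
  omega

/-- the subgroup of order 49 -/
noncomputable def Qsub : Subgroup P where
  carrier := {g | ∃ v, g = el v}
  one_mem' := ⟨(0, 0), el_zero.symm⟩
  mul_mem' := by
    rintro _ _ ⟨u, rfl⟩ ⟨v, rfl⟩
    exact ⟨_, el_mul u v⟩
  inv_mem' := by
    rintro _ ⟨u, rfl⟩
    refine ⟨(u.1 * 6, u.2 * 6), inv_eq_of_mul_eq_one_right ?_⟩
    rw [el_mul, el_eq_of_mod (v := (0, 0)) (by dsimp only; omega) (by dsimp only; omega), el_zero]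

theorem mem_Qsub {g : P} : g ∈ Qsub ↔ ∃ v, g = el v := Iff.rfl

theorem el_mem (v : ℕ × ℕ) : el v ∈ Qsub := ⟨v, rfl⟩

theorem card_Qsub : Nat.card Qsub = 49 := by
  let f : Fin 7 × Fin 7 → Qsub := fun x => ⟨el (x.1, x.2), el_mem _⟩
  have hf : Function.Bijective f := by
    refine ⟨fun x y h => ?_, fun g => ?_⟩
    · obtain ⟨h1, h2⟩ := el_inj (congrArg Subtype.val h)
      dsimp only at h1 h2
      refine Prod.ext (Fin.ext ?_) (Fin.ext ?_) <;> omega
    · obtain ⟨v, hv⟩ := g.2
      refine ⟨(⟨v.1 % 7, Nat.mod_lt _ (by norm_num)⟩, ⟨v.2 % 7, Nat.mod_lt _ (by norm_num)⟩), ?_⟩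
      exact Subtype.ext ((el_mod v.1 v.2).symm.trans hv.symm)
  rw [← Nat.card_congr (Equiv.ofBijective f hf)]
  simp

/-- the number of fixed points is 21 -/
noncomputable def tp (g : P) : Bool :=
  decide ((Finset.univ.filter fun q : Fin 819 => act g q = q).card = 21)

theorem tp_conj (n y : P) : tp (n * y * n⁻¹) = tp y := by
  unfold tp
  congr 2
  refine Finset.card_equiv (act n).symm fun q => ?_
  simp only [Finset.mem_filter, Finset.mem_univ, true_and, map_mul, map_inv,
    Equiv.Perm.mul_apply]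
  constructor
  · intro h
    have := congrArg (act n).symm h
    simpa using this
  · intro h
    have := congrArg (act n) h
    simpa using this

/-- the same for a word, computed -/
noncomputable def fixCount (w : List ℕ) : ℕ :=
  ((List.range 819).filter fun q => Nat.beq (runK Tact w q) q).length

theorem tp_ew (w : List ℕ) : tp (ew w) = Nat.beq (fixCount w) 21 := by
  have h : (Finset.univ.filter fun q : Fin 819 => act (ew w) q = q).card = fixCount w := by
    rw [fixCount, ← List.toFinset_card_of_nodup (List.nodup_range.filter _)]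
    refine Finset.card_bij (fun q _ => (q : ℕ)) ?_ (fun a _ b _ h => Fin.ext h) ?_
    · intro q hq
      rw [Finset.mem_filter] at hq
      simp only [List.mem_toFinset, List.mem_filter, List.mem_range, Nat.beq_eq, runK_eq]
      exact ⟨q.2, (rep.evw_apply w q).symm.trans (congrArg Fin.val hq.2)⟩
    · intro b hb
      simp only [List.mem_toFinset, List.mem_filter, List.mem_range, Nat.beq_eq, runK_eq] at hb
      exact ⟨⟨b, hb.1⟩, Finset.mem_filter.mpr ⟨Finset.mem_univ _,
        Fin.ext ((rep.evw_apply w _).trans hb.2)⟩, rfl⟩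
  rw [tp, h]
  cases hb : Nat.beq (fixCount w) 21 with
  | true => exact decide_eq_true (Nat.eq_of_beq_eq_true hb)
  | false => exact decide_eq_false (Nat.ne_of_beq_eq_false hb)

/-- the slope is 0, 3, 5 or 6 -/
def isA (v : ℕ × ℕ) : Bool :=
  Nat.blt 0 (v.1 % 7) && [0, 3, 5, 6].elem ((v.2 % 7) * (v.1 % 7) ^ 5 % 7)

theorem isA_mod (v : ℕ × ℕ) : isA (v.1 % 7, v.2 % 7) = isA v := by
  simp [isA, Nat.mod_mod]

theorem tp_chk : ∀ i < 7, ∀ j < 7, Nat.beq (fixCount (elW (i, j))) 21 = isA (i, j) := by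
  decide +kernel

theorem tp_el (v : ℕ × ℕ) : tp (el v) = isA v := by
  rw [el_mod, ← ew_elW, tp_ew,
    tp_chk _ (Nat.mod_lt _ (by norm_num)) _ (Nat.mod_lt _ (by norm_num)), isA_mod]

end H87.ThOut
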